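import Cfsg.Agent.S3806
import Cfsg.Agent.Lib.PLocal.Uniserial
import Mathlib.GroupTheory.RegularWreathProduct

/-!
# Uniform elements of `p`-groups of maximal class

An element outside the derived group and outside all two-step centralizers is uniform.  We prove
that `p - 1` of the two-step centralizers contain all of them, so uniform elements exist outside
any prescribed proper subgroup, and we compute their centralizers in all the quotients by terms of
the lower central series.
-/

set_option autoImplicit false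
set_option linter.style.haveILetI false
set_option linter.unusedSectionVars false

open Subgroup
open scoped commutatorElement

namespace CfsgLib.MaxClassUniform

open Cfsg.Agent.S3806 (MaxClass twoStep exists_avoid eq_top_of_sup_commutator)

universe u

section General

variable {G : Type*} [Group G]

/-- Commutators of closures modulo a normal subgroup. -/
theorem commutator_closure_le (N : Subgroup G) [N.Normal] {A B : Set G}
    (h : ∀ a ∈ A, ∀ b ∈ B, ⁅a, b⁆ ∈ N) : ⁅closure A, closure B⁆ ≤ N := by
  let π := QuotientGroup.mk' N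
  have hc : ∀ a b : G, ⁅a, b⁆ ∈ N ↔ π a * π b = π b * π a := fun a b => by
    rw [← QuotientGroup.eq_one_iff (N := N), ← QuotientGroup.mk'_apply, map_commutatorElement,
      commutatorElement_eq_one_iff_mul_comm]
  have h1 : ∀ b ∈ B, closure A ≤ (centralizer ({π b} : Set (G ⧸ N))).comap π := fun b hb =>
    (closure_le _).2 fun a ha => mem_centralizer_singleton_iff.2 ((hc a b).1 (h a ha b hb))
  rw [commutator_le]
  intro a ha b hb
  have h2 : closure B ≤ (centralizer ({π a} : Set (G ⧸ N))).comap π :=
    (closure_le _).2 fun b' hb' =>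
      mem_centralizer_singleton_iff.2 (mem_centralizer_singleton_iff.1 (h1 b' hb' ha)).symm
  exact (hc a b).2 (mem_centralizer_singleton_iff.1 (h2 hb)).symm

theorem lcs_subgroup_le (H : Subgroup G) (X : ℕ → Subgroup G) (h1 : ⁅H, H⁆ ≤ X 1)
    (hstep : ∀ m, 1 ≤ m → ⁅X m, H⁆ ≤ X (m + 1)) : ∀ m, 1 ≤ m → H.lowerCentralSeries m ≤ X m := by
  intro m hm
  induction m, hm using Nat.le_induction with
  | base => rw [Subgroup.lowerCentralSeries_succ, Subgroup.lowerCentralSeries_zero]; exact h1
  | succ m hm ih =>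
    rw [Subgroup.lowerCentralSeries_succ]
    exact (commutator_mono ih le_rfl).trans (hstep m hm)

/-- Hall–Petrescu for exponent `p`, modulo a normal subgroup. -/
theorem mul_pow_mem [Finite G] {p : ℕ} [Fact p.Prime] (H T : Subgroup G) [T.Normal]
    (hcl : H.lowerCentralSeries (p - 1) ≤ T) (hpow : ∀ x ∈ ⁅H, H⁆, x ^ p ∈ T) {a b : G}
    (ha : a ∈ H) (hb : b ∈ H) : (a ^ p * b ^ p)⁻¹ * (a * b) ^ p ∈ T := by
  let π := QuotientGroup.mk' T
  let K : Subgroup (G ⧸ T) := H.map π
  have hK : (⊤ : Subgroup K).lowerCentralSeries (p - 1) = ⊥ := by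
    apply map_injective K.subtype_injective
    rw [Subgroup.top_subtype_lowerCentralSeries, Subgroup.map_bot, ← Subgroup.map_lowerCentralSeries,
      Subgroup.map_eq_bot_iff, QuotientGroup.ker_mk']
    exact hcl
  have h := CfsgLib.PGroup.mul_pow_prime_pow_of_class_lt hK
    (⟨π a, mem_map_of_mem π ha⟩ : K) ⟨π b, mem_map_of_mem π hb⟩ 1
  have hbot : Cfsg.powerClosure p 1 (commutator K) ≤ ⊥ := by
    rw [Cfsg.powerClosure, closure_le]
    rintro _ ⟨x, hx, rfl⟩
    have hx' : (x : G ⧸ T) ∈ (⁅H, H⁆).map π := by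
      rw [Subgroup.map_commutator, ← Subgroup.map_subtype_commutator]
      exact mem_map_of_mem _ hx
    obtain ⟨y, hy, hyx⟩ := hx'
    rw [SetLike.mem_coe, mem_bot]
    refine Subtype.ext ?_
    rw [pow_one, SubmonoidClass.coe_pow, ← hyx, ← map_pow]
    exact (QuotientGroup.eq_one_iff _).2 (hpow y hy)
  have h2 := congrArg Subtype.val (mem_bot.1 (hbot h))
  rw [pow_one] at h2
  rw [← QuotientGroup.eq_one_iff (N := T)]
  simpa [π] using h2

/-- A cyclic subgroup central modulo a normal subgroup gives a normal subgroup. -/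
theorem zpowers_sup_normal (c : G) (B : Subgroup G) [B.Normal] (h : ∀ g : G, ⁅g, c⁆ ∈ B) :
    (zpowers c ⊔ B).Normal := by
  refine ⟨fun x hx g => ?_⟩
  have hle : zpowers c ⊔ B ≤ (zpowers c ⊔ B).comap (MulAut.conj g).toMonoidHom := by
    refine sup_le (zpowers_le.2 ?_) fun b hb => ?_
    · rw [mem_comap]
      show g * c * g⁻¹ ∈ _
      rw [show g * c * g⁻¹ = ⁅g, c⁆ * c by simp only [commutatorElement_def]; group]
      exact mul_mem (mem_sup_right (h g)) (mem_sup_left (mem_zpowers c))
    · exact mem_sup_right (Normal.conj_mem inferInstance b hb g)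
  exact hle hx

end General

section Wreath

variable (p : ℕ) [Fact p.Prime]

abbrev Cp : Type := Multiplicative (ZMod p)

abbrev Wp : Type := Cp p ≀ᵣ Cp p

/-- The standard generators of `C_p ≀ C_p`. -/
def wTop : Wp p := RegularWreathProduct.inl (Multiplicative.ofAdd 1)

def wBase : Wp p :=
  ⟨fun x => if x = 1 then Multiplicative.ofAdd 1 else 1, 1⟩

theorem card_wp : Nat.card (Wp p) = p ^ (p + 1) := by
  rw [RegularWreathProduct.card, show Nat.card (Cp p) = p from
    (Nat.card_congr Multiplicative.toAdd).trans (Nat.card_zmod p), pow_succ]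

theorem pow_cp (x : Cp p) : x ^ p = 1 := by
  apply Multiplicative.toAdd.injective
  simp

theorem pow_base {w : Wp p} (hw : w.right = 1) : w ^ p = 1 := by
  have h : ∀ k : ℕ, (w ^ k).left = (fun x => w.left x ^ k) ∧ (w ^ k).right = 1 := by
    intro k
    induction k with
    | zero => exact ⟨funext fun x => by simp, by simp⟩
    | succ k ih =>
      refine ⟨funext fun x => ?_, by rw [pow_succ]; simp [ih.2, hw]⟩
      rw [pow_succ, RegularWreathProduct.mul_left, ih.1, ih.2]
      simp [pow_succ]
  ext x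
  · rw [(h p).1]; simp [pow_cp]
  · rw [(h p).2]; rfl

theorem wTop_pow : wTop p ^ p = 1 := by rw [wTop, ← map_pow, pow_cp, map_one]

theorem base_comm {v w : Wp p} (hv : v.right = 1) (hw : w.right = 1) : Commute v w := by
  show v * w = w * v
  ext x
  · simp [hv, hw, mul_comm]
  · simp [hv, hw]

theorem mul_pow_ne_one : (wTop p * wBase p) ^ p ≠ 1 := by
  have hp : p.Prime := Fact.out
  set w := wTop p * wBase p
  set g : Cp p := Multiplicative.ofAdd 1
  have hr : ∀ k : ℕ, (w ^ k).right = g ^ k := by
    intro k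
    induction k with
    | zero => simp
    | succ k ih => rw [pow_succ, RegularWreathProduct.mul_right, ih, pow_succ]; simp [w, wTop, wBase, g]
  have hl : ∀ k : ℕ, 1 ≤ k → k ≤ p → (w ^ k).left g = g := by
    intro k hk
    induction k, hk using Nat.le_induction with
    | base => intro _; simp [w, wTop, wBase, g]
    | succ k hk ih =>
      intro hkp
      rw [pow_succ, RegularWreathProduct.mul_left]
      simp only [Pi.mul_apply, ih (by omega), hr]
      have hne : g ^ k ≠ 1 := by
        intro e
        have : ((k : ZMod p)) = 0 := by simpa [g, ← ofAdd_nsmul] using e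
        rw [ZMod.natCast_eq_zero_iff] at this
        have := Nat.le_of_dvd hk this
        omega
      have : (g⁻¹ * ((g ^ k)⁻¹ * g)) ≠ 1 := by
        rw [mul_comm (g ^ k)⁻¹, inv_mul_cancel_left]
        simpa using hne
      simp [w, wTop, wBase, g] at this ⊢
      exact this
  intro e
  have h := hl p hp.one_le le_rfl
  rw [e] at h
  have : (1 : ZMod p) = 0 := by simpa [g] using h.symm
  exact one_ne_zero this

end Wreath

variable {S : Type u} [Group S]

local notation "L" => Subgroup.lowerCentralSeries (⊤ : Subgroup S)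

/-- Uniform elements. -/
structure Uniform (n : ℕ) (s : S) : Prop where
  notMem : s ∉ L 1
  avoid : ∀ i, 1 ≤ i → i + 3 ≤ n → s ∉ twoStep (S := S) i

variable [Finite S] {p n : ℕ} [Fact p.Prime]

omit [Finite S] [Fact p.Prime] in
theorem one_le_twoStep (i : ℕ) : L 1 ≤ twoStep (S := S) i := fun _x hx _z hz =>
  CfsgLib.FGStruct.commutator_lcs_le ⊤ i 1 (commutator_mem_commutator hz hx)

omit [Finite S] [Fact p.Prime] in
theorem comm_mem_succ {i : ℕ} {x : S} (hx : x ∈ L i) (y : S) : ⁅x, y⁆ ∈ L (i + 1) := by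
  rw [Subgroup.lowerCentralSeries_succ]
  exact commutator_mem_commutator hx (mem_top y)

theorem notMem_zero (h : MaxClass p n S) {x : S} (hx : x ∉ L 1) : x ∉ twoStep (S := S) 0 := by
  intro h0
  have := h.nilpotent
  have h3 := h.three
  obtain ⟨w, hw⟩ : ∃ w, w ∉ zpowers x ⊔ L 1 := by
    by_contra hh
    push Not at hh
    exact h.not_cyclic_top x (eq_top_iff.2 fun w _ => hh w)
  haveI : (L 1).Normal := normal_of_characteristic _
  haveI : (L 2).Normal := normal_of_characteristic _
  have htop : closure ({x, w} : Set S) = ⊤ := by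
    refine eq_top_of_sup_commutator ?_
    rw [← Subgroup.top_lowerCentralSeries_one]
    refine eq_top_of_le_card _ ?_
    have hlt1 : L 1 < zpowers x ⊔ L 1 :=
      lt_of_le_of_ne le_sup_right fun e => hx (e ▸ mem_sup_left (mem_zpowers x))
    have hlt2 : zpowers x ⊔ L 1 < closure ({x, w} : Set S) ⊔ L 1 := by
      refine lt_of_le_of_ne (sup_le_sup_right (zpowers_le.2 (subset_closure (by simp))) _) fun e => hw ?_
      rw [e]
      exact mem_sup_left (subset_closure (by simp))
    have h1 := CfsgLib.FusionMaxClass.mul_card_le h.card hlt1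
    have h2 := CfsgLib.FusionMaxClass.mul_card_le h.card hlt2
    rw [h.card, show n = (n - 2) + 2 by omega, pow_add, ← h.card_one, sq, mul_comm, mul_assoc]
    exact (Nat.mul_le_mul_left _ h1).trans h2
  refine not_le_of_gt (h.lt (i := 1) (by omega)) ?_
  rw [Subgroup.lowerCentralSeries_succ _ 0, Subgroup.lowerCentralSeries_zero, ← htop]
  refine (commutator_closure_le (L 2) ?_).trans (le_of_eq (by rw [htop]))
  have hx0 : ∀ z : S, ⁅z, x⁆ ∈ L 2 := fun z => h0 z (mem_top z)
  rintro a ha b hb
  simp only [Set.mem_insert_iff, Set.mem_singleton_iff] at ha hb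
  rcases ha with rfl | rfl <;> rcases hb with rfl | rfl
  · exact hx0 _
  · rw [← commutatorElement_inv]; exact inv_mem (hx0 _)
  · exact hx0 _
  · rw [commutatorElement_self]; exact one_mem _

theorem Uniform.avoid' (h : MaxClass p n S) {s : S} (hs : Uniform n s) {i : ℕ} (hi : i + 3 ≤ n) :
    s ∉ twoStep (S := S) i := by
  rcases Nat.eq_zero_or_pos i with rfl | hi0
  · exact notMem_zero h hs.notMem
  · exact hs.avoid i hi0 hi

theorem Uniform.promote_top (h : MaxClass p n S) {s : S} (hs : Uniform n s) {t : S} (ht : t ∈ L 1)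
    (hts : Commute t s) : t ∈ L (n - 2) := by
  have := h.three
  have : ∀ i, 1 ≤ i → i ≤ n - 2 → t ∈ L i := by
    intro i hi
    induction i, hi using Nat.le_induction with
    | base => exact fun _ => ht
    | succ i hi ih => exact fun hin => h.promote hi (by omega) (hs.avoid i hi (by omega)) (ih (by omega)) hts
  exact this (n - 2) (by omega) le_rfl

theorem last_le_center (h : MaxClass p n S) {z : S} (hz : z ∈ L (n - 2)) (g : S) : Commute z g := by
  rw [← commutatorElement_eq_one_iff_commute, ← mem_bot, ← h.top,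
    show n - 1 = n - 2 + 1 by have := h.three; omega]
  exact comm_mem_succ hz g

theorem Uniform.pow_last (h : MaxClass p n S) {s : S} (hs : Uniform n s) : s ^ p ∈ L (n - 2) :=
  hs.promote_top h (h.pow_mem_one s) ((Commute.refl s).pow_left p)

/-- Elements of the maximal subgroup containing `s` outside the derived group are uniform. -/
theorem Uniform.of_mem (h : MaxClass p n S) {s x : S} (hs : Uniform n s) (hx : x ∈ zpowers s ⊔ L 1)
    (hx1 : x ∉ L 1) : Uniform n x := by
  refine ⟨hx1, fun i hi hin hxi => hs.avoid i hi hin ?_⟩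
  have hlt : L 1 < zpowers x ⊔ L 1 :=
    lt_of_le_of_ne le_sup_right fun e => hx1 (e ▸ mem_sup_left (mem_zpowers x))
  have hle : zpowers x ⊔ L 1 ≤ zpowers s ⊔ L 1 := sup_le (zpowers_le.2 hx) le_sup_right
  have e : zpowers x ⊔ L 1 = zpowers s ⊔ L 1 := by
    by_contra hne
    have hlt2 : zpowers x ⊔ L 1 < zpowers s ⊔ L 1 := lt_of_le_of_ne hle hne
    have h1 := CfsgLib.FusionMaxClass.mul_card_le h.card hlt
    have h2 := CfsgLib.FusionMaxClass.mul_card_le h.card hlt2
    refine h.not_cyclic_top s (eq_top_of_le_card _ ?_)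
    rw [h.card, show n = (n - 2) + 2 by have := h.three; omega, pow_add, ← h.card_one, sq, mul_comm,
      mul_assoc]
    exact (Nat.mul_le_mul_left _ h1).trans h2
  have : s ∈ zpowers x ⊔ L 1 := e.symm.le (mem_sup_left (mem_zpowers s))
  exact sup_le (zpowers_le.2 hxi) (one_le_twoStep i) this

/-- The commutation subgroup modulo a normal subgroup. -/
def commMod (N : Subgroup S) [N.Normal] (x : S) : Subgroup S :=
  (centralizer ({QuotientGroup.mk' N x} : Set (S ⧸ N))).comap (QuotientGroup.mk' N)

omit [Finite S] [Fact p.Prime] in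
theorem mem_commMod {N : Subgroup S} [N.Normal] {x g : S} : g ∈ commMod N x ↔ ⁅g, x⁆ ∈ N := by
  rw [commMod, mem_comap, mem_centralizer_singleton_iff, ← commutatorElement_eq_one_iff_mul_comm,
    ← map_commutatorElement, QuotientGroup.mk'_apply, QuotientGroup.eq_one_iff]

theorem Uniform.commMod_le (h : MaxClass p n S) {s : S} (hs : Uniform n s) {j : ℕ} (hj2 : 2 ≤ j)
    (hj : j ≤ n - 1) (hN : (L j).Normal) :
    commMod (L j) s ⊓ L 1 ≤ L (j - 1) ∧ Nat.card (commMod (L j) s) ≤ p ^ (n + 1 - j) := by
  have hp : p.Prime := Fact.out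
  have := h.three
  set K := commMod (L j) s with hK
  have hinf : K ⊓ L 1 ≤ L (j - 1) := by
    rintro t ⟨htK, ht⟩
    have : ∀ i, 1 ≤ i → i ≤ j - 1 → t ∈ L i := by
      intro i hi
      induction i, hi using Nat.le_induction with
      | base => exact fun _ => ht
      | succ i hi ih =>
        intro hij
        by_contra hcon
        exact h.comm_notMem hi (by omega) (hs.avoid i hi (by omega)) (ih (by omega)) hcon
          (Subgroup.lowerCentralSeries_antitone _ (by omega : i + 2 ≤ j) (mem_commMod.1 htK))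
    exact this (j - 1) (by omega) le_rfl
  refine ⟨hinf, ?_⟩
  haveI : (L 1).Normal := normal_of_characteristic _
  have hKne : K ⊔ L 1 ≠ ⊤ := by
    intro e
    have := h.nilpotent
    rw [Subgroup.top_lowerCentralSeries_one] at e
    have hKtop := eq_top_of_sup_commutator e
    refine hs.avoid' h (i := j - 2) (by omega) fun z _ => ?_
    rw [show j - 2 + 2 = j by omega]
    exact mem_commMod.1 (hKtop ▸ mem_top z : z ∈ K)
  have hidx : (L 1).index = p ^ 2 := by
    have hmul := (L 1).card_mul_index
    rw [h.card_one, h.card, show n = (n - 2) + 2 by omega, pow_add, Nat.add_sub_cancel] at hmul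
    exact Nat.eq_of_mul_eq_mul_left (pow_pos hp.pos _) hmul
  have hrel : (L 1).relIndex (K ⊔ L 1) ≤ p := by
    have hlt : K ⊔ L 1 < ⊤ := lt_top_iff_ne_top.2 hKne
    have h1 := CfsgLib.FusionMaxClass.mul_card_le h.card hlt
    rw [card_top, h.card] at h1
    have h2 := card_mul_index ((L 1).subgroupOf (K ⊔ L 1))
    rw [← relIndex, Nat.card_congr (subgroupOfEquivOfLe le_sup_right).toEquiv, h.card_one] at h2
    rw [← h2, show p ^ n = p * (p ^ (n - 2) * p) by rw [← pow_succ, ← pow_succ']; congr 1; omega] at h1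
    exact Nat.le_of_mul_le_mul_left (Nat.le_of_mul_le_mul_left h1 hp.pos) (pow_pos hp.pos _)
  rw [Subgroup.relIndex_sup_right] at hrel
  have h3 := card_mul_index ((L 1).subgroupOf K)
  rw [← relIndex, ← inf_subgroupOf_left, Nat.card_congr (subgroupOfEquivOfLe inf_le_left).toEquiv] at h3
  rw [← h3]
  refine (Nat.mul_le_mul (card_le_of_le hinf) hrel).trans (le_of_eq ?_)
  rw [h.card_layer (by omega) (by omega), ← pow_succ]
  congr 1
  omega

theorem Uniform.card_centralizer (h : MaxClass p n S) {s : S} (hs : Uniform n s) :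
    Nat.card (centralizer ({s} : Set S)) ≤ p ^ 2 := by
  have := h.three
  have hN : (L (n - 1)).Normal := normal_of_characteristic _
  refine (card_le_of_le ?_).trans ((hs.commMod_le h (by omega) le_rfl hN).2.trans
    (Nat.pow_le_pow_right (Fact.out : p.Prime).pos (by omega)))
  intro g hg
  rw [mem_commMod, commutatorElement_eq_one_iff_mul_comm.2 (mem_centralizer_singleton_iff.1 hg)]
  exact one_mem _

theorem Uniform.pow_coset (h : MaxClass p n S) {s : S} (hs : Uniform n s) {y : S} (hy : y ∈ L 1) :
    (s * y) ^ p = s ^ p := by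
  classical
  haveI : Fintype S := Fintype.ofFinite S
  haveI : (L 1).Normal := normal_of_characteristic _
  let f : S → S := fun g => s⁻¹ * (g * s * g⁻¹)
  have himg : Finset.univ.image f ⊆ Finset.univ.filter fun x => x ∈ L 1 := by
    intro x hx
    obtain ⟨g, -, rfl⟩ := Finset.mem_image.1 hx
    refine Finset.mem_filter.2 ⟨Finset.mem_univ _, ?_⟩
    rw [show f g = ⁅s⁻¹, g⁆ by simp only [f, commutatorElement_def]; group,
      Subgroup.lowerCentralSeries_succ, Subgroup.lowerCentralSeries_zero]
    exact commutator_mem_commutator (mem_top _) (mem_top _)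
  have hfib : ∀ x ∈ Finset.univ.image f,
      ((Finset.univ : Finset S).filter fun g => f g = x).card ≤ p ^ 2 := by
    intro x hx
    obtain ⟨g0, -, rfl⟩ := Finset.mem_image.1 hx
    refine le_trans ?_ (hs.card_centralizer h)
    rw [Nat.card_eq_fintype_card, Fintype.card_subtype]
    refine Finset.card_le_card_of_injOn (fun g => g0⁻¹ * g) ?_ fun a _ b _ e => mul_left_cancel e
    intro g hg
    have hg' : g * s * g⁻¹ = g0 * s * g0⁻¹ := mul_left_cancel (Finset.mem_filter.1 hg).2
    refine Finset.mem_filter.2 ⟨Finset.mem_univ _, mem_centralizer_singleton_iff.2 ?_⟩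
    calc g0⁻¹ * g * s = g0⁻¹ * (g * s * g⁻¹) * g := by group
      _ = s * (g0⁻¹ * g) := by rw [hg']; group
  have h1 := Finset.card_le_mul_card_image (Finset.univ : Finset S) (p ^ 2) hfib
  have e : Finset.univ.image f = Finset.univ.filter fun x => x ∈ L 1 := by
    refine Finset.eq_of_subset_of_card_le himg ?_
    rw [← Fintype.card_subtype, ← Nat.card_eq_fintype_card, h.card_one]
    rw [Finset.card_univ, ← Nat.card_eq_fintype_card, h.card,
      show n = 2 + (n - 2) by have := h.three; omega, pow_add] at h1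
    exact Nat.le_of_mul_le_mul_left h1 (pow_pos (Fact.out : p.Prime).pos 2)
  obtain ⟨g, -, hg⟩ := Finset.mem_image.1 (e ▸ Finset.mem_filter.2 ⟨Finset.mem_univ y, hy⟩ :
    y ∈ Finset.univ.image f)
  have hsy : s * y = g * s * g⁻¹ := by rw [← hg]; simp only [f]; group
  have hc : g * s ^ p = s ^ p * g := ((last_le_center h (hs.pow_last h) g).eq).symm
  calc (s * y) ^ p = (g * s * g⁻¹) ^ p := by rw [hsy]
    _ = g * s ^ p * g⁻¹ := conj_pow
    _ = s ^ p := by rw [hc, mul_inv_cancel_right]

/-- `p`-th powers raise the level by `p - 1`. -/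
theorem Uniform.pow_mem_layer (h : MaxClass p n S) {s : S} (hs : Uniform n s) :
    ∀ j, 1 ≤ j → ∀ y ∈ L j, y ^ p ∈ L (j + (p - 1)) := by
  have hp : p.Prime := Fact.out
  suffices ∀ d j, n - 1 ≤ j + d → 1 ≤ j → ∀ y ∈ L j, y ^ p ∈ L (j + (p - 1)) from
    fun j => this (n - 1) j (by omega)
  intro d
  induction d with
  | zero =>
    intro j hj _ y hy
    have : y = 1 := by
      rw [← mem_bot, ← h.top]
      exact Subgroup.lowerCentralSeries_antitone _ (by omega) hy
    rw [this, one_pow]
    exact one_mem _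
  | succ d ih =>
    intro j hj hj1 y hy
    haveI : (L (j + (p - 1))).Normal := normal_of_characteristic _
    haveI : (L (j + 1)).Normal := normal_of_characteristic _
    set H := closure ({s, y} : Set S)
    have hH : ⁅H, H⁆ ≤ L (j + 1) := by
      refine commutator_closure_le _ ?_
      simp only [Set.mem_insert_iff, Set.mem_singleton_iff]
      rintro a (rfl | rfl) b (rfl | rfl)
      · rw [commutatorElement_self]; exact one_mem _
      · rw [← commutatorElement_inv]; exact inv_mem (comm_mem_succ hy _)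
      · exact comm_mem_succ hy _
      · rw [commutatorElement_self]; exact one_mem _
    have hcl : H.lowerCentralSeries (p - 1) ≤ L (j + (p - 1)) :=
      lcs_subgroup_le H (fun m => L (j + m)) hH (fun m _ => by
        rw [← add_assoc, Subgroup.lowerCentralSeries_succ]
        exact commutator_mono le_rfl le_top) _ (by have := hp.two_le; omega)
    have hm := mul_pow_mem H (L (j + (p - 1))) hcl (fun x hx =>
      Subgroup.lowerCentralSeries_antitone _ (by omega) (ih (j + 1) (by omega) (by omega) x (hH hx)))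
      (subset_closure (Set.mem_insert s _)) (subset_closure (Set.mem_insert_of_mem s rfl) : y ∈ H)
    rw [hs.pow_coset h (Subgroup.lowerCentralSeries_antitone _ hj1 hy),
      show (s ^ p * y ^ p)⁻¹ * s ^ p = (y ^ p)⁻¹ by group, inv_mem_iff] at hm
    exact hm

/-- `p`-th powers are nontrivial between layers `j` and `j + p - 1`. -/
theorem Uniform.pow_notMem (h : MaxClass p n S) {s : S} (hs : Uniform n s) {j : ℕ} (hj1 : 1 ≤ j)
    (hjn : j + (p - 1) ≤ n - 2) {y : S} (hy : y ∈ L j) (hy' : y ∉ L (j + 1)) :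
    y ^ p ∉ L (j + p) := by
  have hp : p.Prime := Fact.out
  have h2 := hp.two_le
  have h3 := h.three
  intro hcon
  let LW : ℕ → Subgroup (Wp p) := fun m => (⊤ : Subgroup (Wp p)).lowerCentralSeries m
  let a : S × Wp p := (s, wTop p)
  let b : S × Wp p := (y, wBase p)
  let B : ℕ → Subgroup (S × Wp p) := fun m => (L (j + m + 1)).prod (LW (m + 1))
  let c : ℕ → S × Wp p := fun m => m.rec b fun _ x => ⁅x, a⁆
  let T : ℕ → Subgroup (S × Wp p) := fun m => zpowers (c m) ⊔ B m
  have hB : ∀ m, (B m).Normal := fun m => by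
    haveI : (L (j + m + 1)).Normal := normal_of_characteristic _
    haveI : (LW (m + 1)).Normal := normal_of_characteristic _
    exact Subgroup.prod_normal _ _
  have hcomm : ∀ m x g, x ∈ B m → ⁅x, g⁆ ∈ B (m + 1) := fun m x g hx => by
    refine Subgroup.mem_prod.2 ⟨?_, ?_⟩
    · show ⁅x.1, g.1⁆ ∈ _
      rw [show j + (m + 1) + 1 = j + m + 1 + 1 by omega]
      exact comm_mem_succ (Subgroup.mem_prod.1 hx).1 _
    · show ⁅x.2, g.2⁆ ∈ _
      exact comm_mem_succ (S := Wp p) (Subgroup.mem_prod.1 hx).2 _
  have hc : ∀ m, (c m).1 ∈ L (j + m) ∧ (c m).2 ∈ LW m ∧ (c m).2.right = 1 ∧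
      (j + m ≤ n - 2 → (c m).1 ∉ L (j + m + 1)) := by
    intro m
    induction m with
    | zero => exact ⟨hy, mem_top _, rfl, fun _ => hy'⟩
    | succ m ih =>
      refine ⟨comm_mem_succ ih.1 s, comm_mem_succ (S := Wp p) ih.2.1 _, ?_, fun hm => ?_⟩
      · show (⁅(c m).2, wTop p⁆).right = 1
        rw [← RegularWreathProduct.rightHom_eq_right, map_commutatorElement,
          commutatorElement_eq_one_iff_mul_comm]
        exact mul_comm _ _
      · rw [show j + (m + 1) + 1 = j + m + 2 by omega]
        exact h.comm_notMem (by omega) (by omega) (hs.avoid _ (by omega) (by omega)) ih.1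
          (ih.2.2.2 (by omega))
  have hT : ∀ m, (T m).Normal := fun m => by
    haveI := hB m
    refine zpowers_sup_normal _ _ fun g => ?_
    rw [← commutatorElement_inv]
    exact inv_mem (Subgroup.mem_prod.2
      ⟨comm_mem_succ (hc m).1 g.1, comm_mem_succ (S := Wp p) (hc m).2.1 g.2⟩)
  set H := closure ({a, b} : Set (S × Wp p))
  have haH : a ∈ H := subset_closure (Set.mem_insert a _)
  have hbH : b ∈ H := subset_closure (Set.mem_insert_of_mem a rfl)
  have hT1 : ⁅H, H⁆ ≤ T 1 := by
    haveI := hT 1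
    refine commutator_closure_le _ ?_
    simp only [Set.mem_insert_iff, Set.mem_singleton_iff]
    rintro x (rfl | rfl) z (rfl | rfl)
    · rw [commutatorElement_self]; exact one_mem _
    · rw [← commutatorElement_inv]; exact inv_mem (mem_sup_left (mem_zpowers (c 1)))
    · exact mem_sup_left (mem_zpowers (c 1))
    · rw [commutatorElement_self]; exact one_mem _
  have hstep : ∀ m, 1 ≤ m → ⁅T m, H⁆ ≤ T (m + 1) := by
    intro m _
    haveI := hT (m + 1)
    have e : T m = closure ({c m} ∪ (B m : Set (S × Wp p))) := by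
      rw [Subgroup.closure_union, Subgroup.closure_eq, ← Subgroup.zpowers_eq_closure]
    rw [e]
    refine commutator_closure_le _ ?_
    rintro x (rfl | hx) z hz
    · simp only [Set.mem_insert_iff, Set.mem_singleton_iff] at hz
      rcases hz with rfl | rfl
      · exact mem_sup_left (mem_zpowers (c (m + 1)))
      · refine mem_sup_right (Subgroup.mem_prod.2 ⟨?_, ?_⟩)
        · exact Subgroup.lowerCentralSeries_antitone _ (by omega)
            (CfsgLib.FGStruct.commutator_lcs_le ⊤ _ _ (commutator_mem_commutator (hc m).1 hy))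
        · show ⁅(c m).2, wBase p⁆ ∈ _
          rw [commutatorElement_eq_one_iff_commute.2 (base_comm p (hc m).2.2.1 rfl)]
          exact one_mem _
    · exact mem_sup_right (hcomm m x z hx)
  haveI := hT (p - 1)
  have hbase : ∀ x ∈ T 1, x.1 ∈ L (j + 1) ∧ x.2.right = 1 := by
    have hle : T 1 ≤ (L (j + 1)).prod (RegularWreathProduct.rightHom : Wp p →* Cp p).ker := by
      refine sup_le (zpowers_le.2 (Subgroup.mem_prod.2 ⟨(hc 1).1, (hc 1).2.2.1⟩)) fun x hx => ?_
      refine Subgroup.mem_prod.2 ⟨Subgroup.lowerCentralSeries_antitone _ (by omega) hx.1, ?_⟩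
      exact Abelianization.commutator_subset_ker _ (Subgroup.top_lowerCentralSeries_one (G := Wp p) ▸
        Subgroup.lowerCentralSeries_antitone _ (by omega : 1 ≤ 1 + 1) hx.2)
    exact fun x hx => Subgroup.mem_prod.1 (hle hx)
  have hm := mul_pow_mem H (T (p - 1)) (lcs_subgroup_le H T hT1 hstep _ (by omega))
    (fun x hx => by
      obtain ⟨hx1, hx2⟩ := hbase x (hT1 hx)
      refine mem_sup_right (Subgroup.mem_prod.2 ⟨?_, ?_⟩)
      · exact Subgroup.lowerCentralSeries_antitone _ (by omega) (hs.pow_mem_layer h (j + 1) (by omega) _ hx1)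
      · show x.2 ^ p ∈ _
        rw [pow_base p hx2]
        exact one_mem _) haH hbH
  haveI := hB (p - 1)
  obtain ⟨u, hu, v, hv, huv⟩ := Subgroup.mem_sup_of_normal_right.1 hm
  obtain ⟨k, rfl⟩ := mem_zpowers_iff.1 hu
  have hWbot : LW (p - 1 + 1) = ⊥ := by
    rw [show p - 1 + 1 = p + 1 - 1 by omega]
    exact CfsgLib.PLoc.Uniserial.lcs_eq_bot_of_card (IsPGroup.of_card (card_wp p)) (card_wp p) (by omega)
  have hv2 : v.2 = 1 := mem_bot.1 (hWbot ▸ (Subgroup.mem_prod.1 hv).2)
  have hW : (c (p - 1)).2 ^ k = (wTop p * wBase p) ^ p := by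
    have := congrArg Prod.snd huv
    simp only [Prod.snd_mul, Prod.pow_snd, Prod.snd_inv, Prod.pow_snd, hv2, mul_one, a, b] at this
    rw [this, wTop_pow, pow_base p (w := wBase p) rfl, mul_one, inv_one, one_mul]
  have hk : ¬ (p : ℤ) ∣ k := by
    rintro ⟨i, rfl⟩
    refine mul_pow_ne_one p ?_
    rw [← hW, zpow_mul, zpow_natCast, pow_base p (hc (p - 1)).2.2.1, one_zpow]
  have hS : (c (p - 1)).1 ^ k ∈ L (j + p) := by
    have := congrArg Prod.fst huv
    simp only [Prod.fst_mul, Prod.pow_fst, Prod.fst_inv, Prod.pow_fst, a, b] at this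
    rw [hs.pow_coset h (Subgroup.lowerCentralSeries_antitone _ hj1 hy),
      show (s ^ p * y ^ p)⁻¹ * s ^ p = (y ^ p)⁻¹ by group] at this
    have hv1 := (Subgroup.mem_prod.1 hv).1
    rw [show j + (p - 1) + 1 = j + p by omega] at hv1
    rw [eq_mul_inv_of_mul_eq this]
    exact mul_mem (inv_mem hcon) (inv_mem hv1)
  refine (hc (p - 1)).2.2.2 hjn ?_
  rw [show j + (p - 1) + 1 = j + p by omega]
  have hcp : (c (p - 1)).1 ^ (p : ℤ) ∈ L (j + p) := by
    rw [zpow_natCast]
    exact Subgroup.lowerCentralSeries_antitone _ (by omega)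
      (hs.pow_mem_layer h (j + (p - 1)) (by omega) _ (hc (p - 1)).1)
  obtain ⟨x, y', hxy⟩ : IsCoprime (p : ℤ) k :=
    (Nat.prime_iff_prime_int.1 hp).irreducible.coprime_iff_not_dvd.2 hk
  have e : (c (p - 1)).1 = ((c (p - 1)).1 ^ (p : ℤ)) ^ x * ((c (p - 1)).1 ^ k) ^ y' := by
    rw [← zpow_mul, ← zpow_mul, ← zpow_add, mul_comm (p : ℤ), mul_comm k, hxy, zpow_one]
  rw [e]
  exact mul_mem (zpow_mem hcp _) (zpow_mem hS _)

/-- Periodicity of the two-step centralizers. -/
theorem Uniform.periodic (h : MaxClass p n S) {s : S} (hs : Uniform n s) {j : ℕ} (hj1 : 1 ≤ j)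
    (hjn : j + (p - 1) + 3 ≤ n) {x : S} (hx : x ∉ twoStep (S := S) j) :
    x ∉ twoStep (S := S) (j + (p - 1)) := by
  have hp : p.Prime := Fact.out
  have h2 := hp.two_le
  intro hcon
  obtain ⟨z, hz, hzx⟩ : ∃ z ∈ L j, ⁅z, x⁆ ∉ L (j + 2) := by
    by_contra hh
    push Not at hh
    exact hx hh
  set e := ⁅z, x⁆
  have he : e ∈ L (j + 1) := comm_mem_succ hz x
  haveI : (L (j + p + 1)).Normal := normal_of_characteristic _
  haveI : (L (2 * j + 2)).Normal := normal_of_characteristic _
  set H := closure ({e⁻¹, z} : Set S)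
  have hH : ⁅H, H⁆ ≤ L (2 * j + 2) := by
    refine commutator_closure_le _ ?_
    simp only [Set.mem_insert_iff, Set.mem_singleton_iff]
    have hez : ⁅e⁻¹, z⁆ ∈ L (2 * j + 2) := Subgroup.lowerCentralSeries_antitone _ (by omega)
      (CfsgLib.FGStruct.commutator_lcs_le ⊤ _ _ (commutator_mem_commutator (inv_mem he) hz))
    rintro a (rfl | rfl) b (rfl | rfl)
    · rw [commutatorElement_self]; exact one_mem _
    · exact hez
    · rw [← commutatorElement_inv]; exact inv_mem hez
    · rw [commutatorElement_self]; exact one_mem _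
  have hHj : H ≤ L j := by
    rw [closure_le]
    rintro a (rfl | rfl)
    · exact inv_mem (Subgroup.lowerCentralSeries_antitone _ (Nat.le_succ j) he)
    · exact hz
  have hcl : H.lowerCentralSeries (p - 1) ≤ L (j + p + 1) := by
    refine (lcs_subgroup_le H (fun m => L (j + m * (j + 1) + 1)) (hH.trans
      (le_of_eq (congrArg _ (by ring)))) (fun m _ => ?_) _ (by omega)).trans
      (Subgroup.lowerCentralSeries_antitone _ ?_)
    · refine (commutator_mono le_rfl hHj).trans ((CfsgLib.FGStruct.commutator_lcs_le ⊤ _ _).trans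
        (le_of_eq (congrArg _ (by ring))))
    · have : (p - 1) * 2 ≤ (p - 1) * (j + 1) := Nat.mul_le_mul_left _ (by omega)
      omega
  have hm := mul_pow_mem H (L (j + p + 1)) hcl (fun a ha =>
    Subgroup.lowerCentralSeries_antitone _ (by omega) (hs.pow_mem_layer h (2 * j + 2) (by omega) _ (hH ha)))
    (subset_closure (Set.mem_insert _ _)) (subset_closure (Set.mem_insert_of_mem _ rfl) : z ∈ H)
  have h1 := hcon (z ^ p) (hs.pow_mem_layer h j hj1 z hz)
  rw [show j + (p - 1) + 2 = j + p + 1 by omega] at h1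
  have hconj : x * z * x⁻¹ = e⁻¹ * z := by simp only [e, commutatorElement_def]; group
  have h2' : ⁅z ^ p, x⁆ = z ^ p * ((e⁻¹ * z) ^ p)⁻¹ := by
    have hcp : (x * z * x⁻¹) ^ p = x * z ^ p * x⁻¹ := conj_pow
    rw [← hconj, hcp]
    simp only [commutatorElement_def]
    group
  have h3' : z ^ p * ((e⁻¹ ^ p * z ^ p)⁻¹ * (e⁻¹ * z) ^ p) * (z ^ p)⁻¹ ∈ L (j + p + 1) :=
    Normal.conj_mem inferInstance _ hm _
  refine hs.pow_notMem h (j := j + 1) (by omega) (by omega) he hzx ?_
  rw [show j + 1 + p = j + p + 1 by omega]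
  have h4 := mul_mem h3' h1
  rw [h2'] at h4
  convert h4 using 1
  group

/-- Elements outside the first `p - 1` two-step centralizers are uniform. -/
theorem uniform_of_avoid : ∀ (n : ℕ) (S : Type u) [Group S] [Finite S], MaxClass p n S → ∀ s : S,
    s ∉ (⊤ : Subgroup S).lowerCentralSeries 1 →
    (∀ i, 1 ≤ i → i ≤ p - 1 → i + 3 ≤ n → s ∉ twoStep (S := S) i) → Uniform n s := by
  intro n
  induction n using Nat.strong_induction_on with
  | _ n IH =>
  intro S _ _ h s hs1 hs
  refine ⟨hs1, ?_⟩
  have hp : p.Prime := Fact.out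
  have h2 := hp.two_le
  rcases Nat.lt_or_ge (p - 1) (n - 3) with hbig | hsmall
  · haveI : ((⊤ : Subgroup S).lowerCentralSeries (n - 2)).Normal := normal_of_characteristic _
    set Z := (⊤ : Subgroup S).lowerCentralSeries (n - 2)
    set π := QuotientGroup.mk' Z
    have hmap : ∀ j, ((⊤ : Subgroup S).lowerCentralSeries j).map π =
        (⊤ : Subgroup (S ⧸ Z)).lowerCentralSeries j := fun j => by
      rw [Subgroup.map_lowerCentralSeries,
        Subgroup.map_top_of_surjective π (QuotientGroup.mk'_surjective _)]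
    have hQ : MaxClass p (n - 1) (S ⧸ Z) := by
      refine ⟨?_, by omega, ?_, fun e => ?_⟩
      · have hmul := Z.card_mul_index
        rw [h.card_layer (by omega) (by omega), h.card, show n - 1 - (n - 2) = 1 by omega, pow_one,
          index_eq_card, show p ^ n = p * p ^ (n - 1) by rw [← pow_succ']; congr 1; omega] at hmul
        exact Nat.eq_of_mul_eq_mul_left hp.pos hmul
      · rw [← hmap, Subgroup.map_eq_bot_iff, QuotientGroup.ker_mk',
          show n - 1 - 1 = n - 2 by omega]
      · rw [← hmap, Subgroup.map_eq_bot_iff, QuotientGroup.ker_mk', show n - 1 - 2 = n - 3 by omega] at e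
        have hlt := h.lt (i := n - 3) (by omega)
        rw [show n - 3 + 1 = n - 2 by omega] at hlt
        exact not_le_of_gt hlt e
    have hmem : ∀ i, i ≤ n - 2 → ∀ g : S, π g ∈ (⊤ : Subgroup (S ⧸ Z)).lowerCentralSeries i ↔
        g ∈ (⊤ : Subgroup S).lowerCentralSeries i := fun i hi g => by
      rw [← hmap, ← mem_comap, comap_map_eq_self]
      rw [QuotientGroup.ker_mk']
      exact Subgroup.lowerCentralSeries_antitone _ hi
    have htwo : ∀ i, i + 2 ≤ n - 2 → ∀ g : S, π g ∈ twoStep (S := S ⧸ Z) i ↔ g ∈ twoStep (S := S) i := by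
      intro i hi g
      constructor
      · intro hg z hz
        rw [← hmem _ hi, map_commutatorElement]
        exact hg _ ((hmem i (by omega) z).2 hz)
      · intro hg q hq
        obtain ⟨z, rfl⟩ := QuotientGroup.mk'_surjective _ q
        rw [← map_commutatorElement]
        exact (hmem _ hi _).2 (hg z ((hmem i (by omega) z).1 hq))
    have hlow : ∀ x : S, x ∉ (⊤ : Subgroup S).lowerCentralSeries 1 →
        (∀ i, 1 ≤ i → i ≤ p - 1 → i + 3 ≤ n → x ∉ twoStep (S := S) i) →
        ∀ i, 1 ≤ i → i + 4 ≤ n → x ∉ twoStep (S := S) i := by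
      intro x hx1 hx i hi hin hxi
      exact (IH (n - 1) (by omega) (S ⧸ Z) hQ (π x) (fun e => hx1 ((hmem 1 (by omega) x).1 e))
        (fun k hk hkp hkn e => hx k hk hkp (by omega) ((htwo k (by omega) x).1 e))).avoid i hi
        (by omega) ((htwo i (by omega) x).2 hxi)
    obtain ⟨s0, hs0⟩ := exists_avoid h.card (insert (n - 3) (Finset.Icc 1 (p - 1))) (twoStep (S := S))
      (fun i hi => h.twoStep_ne_top (by
        rw [Finset.mem_insert, Finset.mem_Icc] at hi
        omega))
      ((Finset.card_insert_le _ _).trans (by rw [Nat.card_Icc]; omega))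
    have hu : Uniform n s0 := by
      have h01 : s0 ∉ (⊤ : Subgroup S).lowerCentralSeries 1 := fun e =>
        hs0 (n - 3) (Finset.mem_insert_self _ _) (one_le_twoStep _ e)
      refine ⟨h01, fun i hi hin => ?_⟩
      rcases eq_or_lt_of_le hin with e | hlt
      · rw [show i = n - 3 by omega]
        exact hs0 _ (Finset.mem_insert_self _ _)
      · exact hlow s0 h01 (fun k hk hkp _ => hs0 k (Finset.mem_insert_of_mem (Finset.mem_Icc.2 ⟨hk, hkp⟩)))
          i hi (by omega)
    intro i hi hin
    rcases eq_or_lt_of_le hin with e | hlt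
    · have := hu.periodic h (j := n - 3 - (p - 1)) (by omega) (by omega)
        (hlow s hs1 hs _ (by omega) (by omega))
      rwa [show n - 3 - (p - 1) + (p - 1) = i by omega] at this
    · exact hlow s hs1 hs i hi (by omega)
  · exact fun i hi hin => hs i hi (by omega) hin

/-- Uniform elements avoid any given proper subgroup. -/
theorem exists_uniform (h : MaxClass p n S) (D : Subgroup S) (hD : D ≠ ⊤) :
    ∃ s, Uniform n s ∧ s ∉ D := by
  have hp : p.Prime := Fact.out
  have h2 := hp.two_le
  have h3 := h.three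
  by_cases hn : n = 3
  · obtain ⟨s, hs⟩ := exists_avoid h.card (Finset.univ : Finset Bool) (fun b => if b then D else L 1)
      (fun b _ => by
        cases b
        · exact fun e => h.not_cyclic_top 1 (by simpa using e)
        · exact hD)
      (by simpa using h2)
    exact ⟨s, ⟨by simpa using hs false (Finset.mem_univ _), fun i hi hin => by omega⟩,
      by simpa using hs true (Finset.mem_univ _)⟩
  · obtain ⟨s, hs⟩ := exists_avoid h.card (insert 0 (Finset.Icc 1 (min (p - 1) (n - 3))))
      (fun i => if i = 0 then D else twoStep (S := S) i)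
      (fun i hi => by
        rw [Finset.mem_insert, Finset.mem_Icc] at hi
        by_cases hi0 : i = 0
        · simpa [hi0] using hD
        · simpa [hi0] using h.twoStep_ne_top (i := i) (by omega))
      ((Finset.card_insert_le _ _).trans (by rw [Nat.card_Icc]; omega))
    have hav : ∀ i, 1 ≤ i → i ≤ p - 1 → i + 3 ≤ n → s ∉ twoStep (S := S) i := fun i h1 h2' h3' => by
      simpa [show i ≠ 0 by omega] using
        hs i (Finset.mem_insert_of_mem (Finset.mem_Icc.2 ⟨h1, le_min h2' (by omega)⟩))
    refine ⟨s, uniform_of_avoid n S h s (fun e => hav 1 le_rfl (by omega) (by omega) (one_le_twoStep 1 e)) hav, ?_⟩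
    simpa using hs 0 (Finset.mem_insert_self _ _)

/-- The maximal subgroup generated by a uniform element contains its centralizers modulo the layers. -/
theorem Uniform.commMod_le_sup (h : MaxClass p n S) {s : S} (hs : Uniform n s) {j : ℕ} (hj2 : 2 ≤ j)
    (hj : j ≤ n - 1) (hN : (L j).Normal) : commMod (L j) s ≤ zpowers s ⊔ L 1 := by
  have hp : p.Prime := Fact.out
  have := h.three
  by_contra hle
  obtain ⟨g, hg, hg'⟩ := SetLike.not_le_iff_exists.1 hle
  set K := commMod (L j) s
  have hsK : s ∈ K := mem_commMod.2 (by rw [commutatorElement_self]; exact one_mem _)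
  have hlt1 : L 1 < zpowers s ⊔ L 1 :=
    lt_of_le_of_ne le_sup_right fun e => hs.notMem (e ▸ mem_sup_left (mem_zpowers s))
  have hlt2 : zpowers s ⊔ L 1 < K ⊔ L 1 :=
    lt_of_le_of_ne (sup_le_sup_right (zpowers_le.2 hsK) _) fun e => hg' (e ▸ mem_sup_left hg)
  have h1 := CfsgLib.FusionMaxClass.mul_card_le h.card hlt1
  have h2 := CfsgLib.FusionMaxClass.mul_card_le h.card hlt2
  have htop : K ⊔ L 1 = ⊤ := by
    refine eq_top_of_le_card _ ?_
    rw [h.card, show n = (n - 2) + 2 by omega, pow_add, ← h.card_one, sq, mul_comm, mul_assoc]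
    exact (Nat.mul_le_mul_left _ h1).trans h2
  have := h.nilpotent
  rw [Subgroup.top_lowerCentralSeries_one] at htop
  have hKtop := eq_top_of_sup_commutator htop
  refine hs.avoid' h (i := j - 2) (by omega) fun z _ => ?_
  rw [show j - 2 + 2 = j by omega]
  exact mem_commMod.1 (hKtop ▸ mem_top z : z ∈ K)

/-- Lower bound for the centralizers of uniform elements modulo the layers. -/
theorem Uniform.le_card_commMod (h : MaxClass p n S) {s : S} (hs : Uniform n s) {j : ℕ} (hj2 : 2 ≤ j)
    (hj : j ≤ n - 1) (hN : (L j).Normal) : p ^ (n + 1 - j) ≤ Nat.card (commMod (L j) s) := by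
  have := h.three
  have hlt : L (j - 1) < commMod (L j) s := by
    refine lt_of_le_of_ne (fun x hx => mem_commMod.2 ?_) fun e => hs.notMem ?_
    · rw [show j = j - 1 + 1 by omega]
      exact comm_mem_succ hx s
    · refine Subgroup.lowerCentralSeries_antitone _ (by omega : 1 ≤ j - 1) (e ▸ mem_commMod.2 ?_)
      rw [commutatorElement_self]
      exact one_mem _
  refine le_trans (le_of_eq ?_) (CfsgLib.FusionMaxClass.mul_card_le h.card hlt)
  rw [h.card_layer (by omega) (by omega), ← pow_succ']
  congr 1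
  omega

end CfsgLib.MaxClassUniform
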