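import Cfsg.Prelude.Def_CaseTheorems
import Cfsg.Agent.Lib.MaxClassUniform.Basic

/-!
# Groups with a Sylow subgroup of maximal class

If a normal subgroup meets a Sylow subgroup of maximal class in a large subgroup then some element
has a centralizer whose `p`-part is `p ^ 2`; otherwise the group is quasisimple.
-/

set_option autoImplicit false
set_option linter.style.haveILetI false
set_option linter.unusedSectionVars false

open Subgroup
open scoped commutatorElement Pointwise

namespace CfsgLib.MaxClassUniform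

open Cfsg.Agent.S3806 (MaxClass)

universe u

section Sylow

variable {G : Type u} [Group G] [Finite G] {p : ℕ} [Fact p.Prime]

/-- `p`-subgroups of `P M` are conjugate into `P` by elements of `M`. -/
theorem conj_into (P : Sylow p G) {M R : Subgroup G} (hPM : (P : Subgroup G) ≤ normalizer (M : Set G))
    (hR : IsPGroup p R) (hle : R ≤ M ⊔ (P : Subgroup G)) :
    ∃ m ∈ M, ∀ r ∈ R, m * r * m⁻¹ ∈ (P : Subgroup G) := by
  set K := M ⊔ (P : Subgroup G)
  let PK : Sylow p K := P.subtype le_sup_right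
  obtain ⟨T, hT⟩ := (hR.comap_of_injective K.subtype K.subtype_injective).exists_le_sylow
  obtain ⟨c, hc⟩ := MulAction.exists_smul_eq K T PK
  have hc' : ∀ r ∈ R, (c : G) * r * (c : G)⁻¹ ∈ (P : Subgroup G) := by
    intro r hr
    have h1 : MulAut.conj c • (⟨r, hle hr⟩ : K) ∈ ((c • T : Sylow p K) : Subgroup K) := by
      rw [Sylow.coe_subgroup_smul]
      exact smul_mem_pointwise_smul _ _ _ (hT (show (⟨r, hle hr⟩ : K) ∈ R.comap K.subtype from hr))
    rw [hc] at h1
    exact h1
  have hcm : (c : G) ∈ ((P : Subgroup G) : Set G) * (M : Set G) := by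
    rw [← coe_mul_of_left_le_normalizer_right _ _ hPM, sup_comm]
    exact c.2
  obtain ⟨q, hq, m, hm, hqm⟩ := Set.mem_mul.1 hcm
  refine ⟨m, hm, fun r hr => ?_⟩
  have h1 := hc' r hr
  rw [← hqm] at h1
  have h2 := mul_mem (mul_mem (inv_mem hq) h1) hq
  convert h2 using 1
  group

/-- A central section of order `p`. -/
theorem step_central {X : Type*} [Group X] [Finite X] (hX : IsPGroup p X) (A B : Subgroup X)
    [A.Normal] [B.Normal] (hcard : Nat.card A ≤ p * Nat.card B) (hBA : B ≤ A) : ⁅A, (⊤ : Subgroup X)⁆ ≤ B := by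
  have hp : p.Prime := Fact.out
  let π := QuotientGroup.mk' B
  set Ab := A.map π
  have hAn : Ab.Normal := Normal.map inferInstance π (QuotientGroup.mk'_surjective B)
  have hcardAb : Nat.card Ab ≤ p := by
    have h : π.ker.relIndex A = Nat.card (A.map π) := relIndex_ker A π
    rw [QuotientGroup.ker_mk', relIndex] at h
    rw [← h]
    have h2 := card_mul_index (B.subgroupOf A)
    rw [Nat.card_congr (subgroupOfEquivOfLe hBA).toEquiv] at h2
    rw [← h2, mul_comm p] at hcard
    exact Nat.le_of_mul_le_mul_left hcard Nat.card_pos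
  suffices h : ⁅Ab, (⊤ : Subgroup (X ⧸ B))⁆ = ⊥ by
    rw [← Subgroup.map_top_of_surjective π (QuotientGroup.mk'_surjective B),
      ← map_commutator, Subgroup.map_eq_bot_iff, QuotientGroup.ker_mk'] at h
    exact h
  set K := ⁅Ab, (⊤ : Subgroup (X ⧸ B))⁆
  have hKle : K ≤ Ab := commutator_le_left _ _
  rcases hKle.eq_or_lt with e | hlt
  · haveI := (hX.to_quotient B).isNilpotent
    have hc := Subgroup.lowerCentralSeries_eq_bot_iff_nilpotencyClass_le.2
      (le_refl (Group.nilpotencyClass (X ⧸ B)))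
    have : ∀ k, Ab ≤ (⊤ : Subgroup (X ⧸ B)).lowerCentralSeries k := by
      intro k
      induction k with
      | zero => exact le_top
      | succ k ih =>
        rw [Subgroup.lowerCentralSeries_succ]
        exact e.ge.trans (commutator_mono ih le_rfl)
    exact eq_bot_iff.2 (hKle.trans ((this _).trans hc.le))
  · obtain ⟨k, hk⟩ := IsPGroup.iff_card.1 ((hX.to_quotient B).to_subgroup K)
    rcases Nat.eq_zero_or_pos k with rfl | hk0
    · exact eq_bot_of_card_le K (by rw [hk, pow_zero])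
    · exfalso
      have hm : Nat.card K < Nat.card Ab := CfsgLib.PLoc.Uniserial.card_lt_of_lt hlt
      have : p ≤ p ^ k := Nat.le_self_pow hk0.ne' p
      omega

theorem exists_normalizing (C W : Subgroup G) (hWC : W ≤ C) (hW : IsPGroup p W)
    (hmax : ∀ r ∈ C, IsPGroup p (W ⊔ zpowers r : Subgroup G) →
      (∀ w ∈ W, r * w * r⁻¹ ∈ W) → r ∈ W) :
    ∀ R : Subgroup G, IsPGroup p R → R ≤ C → ∃ c ∈ C, ∀ r ∈ R, c * r * c⁻¹ ∈ W := by
  intro R hR hRC
  obtain ⟨T, hT⟩ := (hW.comap_of_injective C.subtype C.subtype_injective).exists_le_sylow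
  have hTW : (T : Subgroup C) = W.subgroupOf C := by
    by_contra hne
    have hlt : W.subgroupOf C < T := lt_of_le_of_ne hT (Ne.symm hne)
    haveI := T.2.isNilpotent
    have hlt' : (W.subgroupOf C).subgroupOf T < ⊤ := by
      refine lt_top_iff_ne_top.2 fun e => hne (le_antisymm (subgroupOf_eq_top.1 e) hT)
    obtain ⟨r, hr, hr'⟩ := SetLike.exists_of_lt
      (Group.normalizerCondition_of_isNilpotent _ hlt')
    refine hr' (show ((r : C) : G) ∈ W from hmax _ (r : C).2 ?_ fun w hw => ?_)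
    · refine (T.2.map C.subtype).to_le (sup_le (fun w hw => ⟨⟨w, hWC hw⟩, hT hw, rfl⟩)
        (zpowers_le.2 ⟨_, r.2, rfl⟩))
    · exact (mem_normalizer_iff.1 hr ⟨⟨w, hWC hw⟩, hT hw⟩).1 hw
  obtain ⟨T', hT'⟩ := (hR.comap_of_injective C.subtype C.subtype_injective).exists_le_sylow
  obtain ⟨c, hc⟩ := MulAction.exists_smul_eq C T' T
  refine ⟨c, c.2, fun r hr => ?_⟩
  have h1 : MulAut.conj c • (⟨r, hRC hr⟩ : C) ∈ ((c • T' : Sylow p C) : Subgroup C) := by
    rw [Sylow.coe_subgroup_smul]
    exact smul_mem_pointwise_smul _ _ _ (hT' (show (⟨r, hRC hr⟩ : C) ∈ R.comap C.subtype from hr))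
  rw [hc, hTW] at h1
  exact h1

end Sylow

variable {G : Type u} [Group G] [Finite G] {p n : ℕ} [Fact p.Prime] {P : Sylow p G}

local notation "Q" => (P : Subgroup G)
local notation "Γ" => Subgroup.lowerCentralSeries (P : Subgroup G)
local notation "LQ" => Subgroup.lowerCentralSeries (⊤ : Subgroup ((P : Subgroup G)))

theorem mem_layer {i : ℕ} {x : Q} : (x : G) ∈ Γ i ↔ x ∈ LQ i := by
  rw [← Subgroup.top_subtype_lowerCentralSeries]
  exact mem_map_iff_mem (Q).subtype_injective

theorem card_layer_eq (i : ℕ) : Nat.card (Γ i) = Nat.card (LQ i) := by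
  rw [← Subgroup.top_subtype_lowerCentralSeries, card_map_of_injective (Q).subtype_injective]

theorem layer_le (i : ℕ) : Γ i ≤ Q := (Subgroup.lowerCentralSeries_antitone _ (Nat.zero_le i))

/-- The `G`-version of the centralizers modulo normalized subgroups. -/
def commSub (H M : Subgroup G) (hMH : H ≤ normalizer (M : Set G)) (s : G) : Subgroup G where
  carrier := {g | g ∈ H ∧ ⁅g, s⁆ ∈ M}
  one_mem' := ⟨one_mem _, by simp [one_mem]⟩
  mul_mem' := fun {a b} ha hb => ⟨mul_mem ha.1 hb.1, by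
    rw [show ⁅a * b, s⁆ = a * ⁅b, s⁆ * a⁻¹ * ⁅a, s⁆ by simp only [commutatorElement_def]; group]
    exact mul_mem ((mem_normalizer_iff.1 (hMH ha.1) _).1 hb.2) ha.2⟩
  inv_mem' := fun {a} ha => ⟨inv_mem ha.1, by
    rw [show ⁅a⁻¹, s⁆ = a⁻¹ * ⁅a, s⁆⁻¹ * a⁻¹⁻¹ by simp only [commutatorElement_def]; group]
    exact (mem_normalizer_iff.1 (hMH (inv_mem ha.1)) _).1 (inv_mem ha.2)⟩

theorem conj_comm_mem {M : Subgroup G} {c g s : G} (hc : c ∈ normalizer (M : Set G))
    (hg : ⁅g, s⁆ ∈ M) : ⁅c * g * c⁻¹, c * s * c⁻¹⁆ ∈ M := by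
  rw [show ⁅c * g * c⁻¹, c * s * c⁻¹⁆ = c * ⁅g, s⁆ * c⁻¹ by simp only [commutatorElement_def]; group]
  exact (mem_normalizer_iff.1 hc _).1 hg

/-- Centralizer bound: a `p`-subgroup of `M` centralizing a uniform element has order at most `p`. -/
theorem card_le_of_commute (h : MaxClass p n Q) {j : ℕ} (hj1 : 1 ≤ j) {M : Subgroup G}
    (hPM : Q ≤ normalizer (M : Set G)) (hQM : Q ⊓ M = Γ j) {x : Q} (hx : Uniform n x)
    {R : Subgroup G} (hR : IsPGroup p R) (hRM : R ≤ M) (hRx : ∀ r ∈ R, Commute r (x : G)) :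
    Nat.card R ≤ p := by
  have := h.three
  have hX : IsPGroup p (zpowers (x : G)) := P.2.to_le (zpowers_le.2 x.2)
  have hnorm : zpowers (x : G) ≤ normalizer (R : Set G) := by
    refine le_trans (zpowers_le.2 (mem_centralizer_iff.2 fun r (hr : r ∈ (R : Set G)) => (hRx r hr).eq)) ?_
    exact centralizer_le_normalizer _
  have hR' : IsPGroup p (zpowers (x : G) ⊔ R : Subgroup G) := hX.to_sup_of_normal_right' hR hnorm
  obtain ⟨m, hm, hconj⟩ := conj_into P hPM hR'
    (sup_le ((zpowers_le.2 x.2).trans le_sup_right) (hRM.trans le_sup_left))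
  have hx'Q : m * x * m⁻¹ ∈ Q := hconj _ (mem_sup_left (mem_zpowers _))
  set x' : Q := ⟨_, hx'Q⟩
  have hdiff : x⁻¹ * x' ∈ LQ j := by
    rw [← mem_layer, ← hQM]
    refine ⟨SetLike.coe_mem _, ?_⟩
    show (x : G)⁻¹ * (m * x * m⁻¹) ∈ M
    rw [show (x : G)⁻¹ * (m * x * m⁻¹) = ((x : G)⁻¹ * m * (x : G)⁻¹⁻¹) * m⁻¹ by group]
    exact mul_mem ((mem_normalizer_iff.1 (hPM (inv_mem (x.2 : (x : G) ∈ Q))) _).1 hm) (inv_mem hm)
  have hx'u : Uniform n x' := by
    have hL1 : x⁻¹ * x' ∈ LQ 1 := Subgroup.lowerCentralSeries_antitone _ hj1 hdiff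
    refine hx.of_mem h ?_ fun e => hx.notMem ?_
    · rw [show x' = x * (x⁻¹ * x') by group]
      exact mul_mem (mem_sup_left (mem_zpowers x)) (mem_sup_right hL1)
    · rw [show x = x' * (x⁻¹ * x')⁻¹ by group]
      exact mul_mem e (inv_mem hL1)
  have hsub : R.map (MulAut.conj m).toMonoidHom ≤ Γ (n - 2) := by
    rintro _ ⟨r, hr, rfl⟩
    show m * r * m⁻¹ ∈ _
    have hrQ : m * r * m⁻¹ ∈ Q := hconj _ (mem_sup_right hr)
    have hrj : (⟨_, hrQ⟩ : Q) ∈ LQ j := by
      rw [← mem_layer, ← hQM]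
      exact ⟨hrQ, (mul_mem (mul_mem hm (hRM hr)) (inv_mem hm) : m * r * m⁻¹ ∈ M)⟩
    have := hx'u.promote_top h (Subgroup.lowerCentralSeries_antitone _ hj1 hrj)
      (Subtype.ext (show m * r * m⁻¹ * (m * x * m⁻¹) = m * x * m⁻¹ * (m * r * m⁻¹) by
        rw [show m * r * m⁻¹ * (m * x * m⁻¹) = m * (r * x) * m⁻¹ by group, (hRx r hr).eq]
        group))
    exact mem_layer.2 this
  have hc := card_le_of_le hsub
  rw [card_map_of_injective (MulAut.conj m).injective, card_layer_eq, h.card_layer (by omega) (by omega),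
    show n - 1 - (n - 2) = 1 by omega, pow_one] at hc
  exact hc

/-- The main induction. -/
theorem sylow_commSub (h : MaxClass p n Q) (s : Q) (hs : Uniform n s) :
    ∀ j, 1 ≤ j → j ≤ n - 1 →
    (j + 3 ≤ n ∨ ∃ N : Subgroup G, N.Normal ∧ (s : G) ∉ N ∧ Γ 1 ≤ N) →
    ∀ (H M : Subgroup G) (hMH : H ≤ normalizer (M : Set G)), Q ≤ H → Q ⊓ M = Γ j →
    ∀ R : Subgroup G, IsPGroup p R → R ≤ commSub H M hMH (s : G) →
      ∃ c ∈ commSub H M hMH (s : G), ∀ r ∈ R, c * r * c⁻¹ ∈ Q := by
  have hp : p.Prime := Fact.out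
  have h3 := h.three
  intro j
  induction j with
  | zero => intro h0; omega
  | succ j ih =>
    intro _ hjn hcase H M hMH hQH hQM
    have hPM : Q ≤ normalizer (M : Set G) := hQH.trans hMH
    set C := commSub H M hMH (s : G)
    have hmemC : ∀ g : Q, (g : G) ∈ C ↔ ⁅g, s⁆ ∈ LQ (j + 1) := by
      intro g
      rw [← mem_layer, ← hQM]
      exact ⟨fun hg => ⟨SetLike.coe_mem _, hg.2⟩, fun hg => ⟨hQH g.2, hg.2⟩⟩
    suffices hmax : ∀ r ∈ C, IsPGroup p (Q ⊓ C ⊔ zpowers r : Subgroup G) →
        (∀ w ∈ Q ⊓ C, r * w * r⁻¹ ∈ Q ⊓ C) → r ∈ Q ⊓ C by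
      intro R hR hRC
      obtain ⟨c, hc, hc'⟩ := exists_normalizing C (Q ⊓ C) inf_le_right (P.2.to_le inf_le_left) hmax R hR hRC
      exact ⟨c, hc, fun r hr => (hc' r hr).1⟩
    intro r hrC hpg hrW
    rcases Nat.eq_zero_or_pos j with rfl | hj
    · -- the whole Sylow subgroup centralizes `s` modulo `M`
      have hQC : Q ≤ C := fun g hg => (hmemC ⟨g, hg⟩).2 (by
        rw [Subgroup.lowerCentralSeries_succ, Subgroup.lowerCentralSeries_zero]
        exact commutator_mem_commutator (mem_top _) (mem_top _))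
      rw [inf_eq_left.2 hQC] at hpg ⊢
      exact (P.is_maximal' hpg le_sup_left).le (mem_sup_right (mem_zpowers r))
    haveI hn1 : (LQ (j + 1)).Normal := normal_of_characteristic _
    by_contra hrn
    have hrH : r ∈ H := hrC.1
    have hzC : ∀ z ∈ Γ j, z ∈ Q ⊓ C := by
      intro z hz
      have hzQ := layer_le j hz
      exact ⟨hzQ, (hmemC ⟨z, hzQ⟩).2 (comm_mem_succ (mem_layer.1 hz) s)⟩
    -- the conjugate of the layer stays in the layer
    have hstab : ∀ z ∈ Γ j, r * z * r⁻¹ ∈ Γ j := by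
      intro z hz
      obtain ⟨hxQ, hxC⟩ := hrW z (hzC z hz)
      set x : Q := ⟨_, hxQ⟩
      have hxcm : x ∈ commMod (LQ (j + 1)) s := mem_commMod.2 ((hmemC x).1 hxC)
      have hx1 : x ∈ LQ 1 → r * z * r⁻¹ ∈ Γ j := by
        intro hx1
        have := (hs.commMod_le h (by omega) hjn hn1).1 ⟨hxcm, hx1⟩
        rw [Nat.add_sub_cancel] at this
        exact mem_layer.2 this
      refine hx1 ?_
      have hxsup := hs.commMod_le_sup h (by omega) hjn hn1 hxcm
      haveI : (LQ 1).Normal := normal_of_characteristic _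
      rcases hcase with hA | ⟨N, hN, hsN, hΓN⟩
      · by_contra hxn
        have hxu := hs.of_mem h hxsup hxn
        have hzj : (⟨z, layer_le j hz⟩ : Q) ∈ LQ j := mem_layer.1 hz
        set k := max (j + 1) (n - 1 - (j + 1))
        let r' := (MulAut.conj r).toMonoidHom
        have hE : Γ k ≤ Q := layer_le k
        have hEM : Γ k ≤ M := by
          refine (Subgroup.lowerCentralSeries_antitone _ (le_max_left _ _)).trans ?_
          rw [← hQM]
          exact inf_le_right
        have hle := card_le_of_commute h (by omega : 1 ≤ j + 1) hPM hQM hxu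
          (R := (Γ k).map r') ((P.2.to_le hE).map _)
          (by
            rintro _ ⟨e, he, rfl⟩
            exact (mem_normalizer_iff.1 (hMH hrH) _).1 (hEM he))
          (by
            rintro _ ⟨e, he, rfl⟩
            have hez : ⁅(⟨e, hE he⟩ : Q), ⟨z, layer_le j hz⟩⁆ ∈ LQ (k + j + 1) :=
              CfsgLib.FGStruct.commutator_lcs_le ⊤ _ _
                (commutator_mem_commutator (mem_layer.1 he) hzj)
            have hez2 := Subgroup.lowerCentralSeries_antitone _ (by omega : n - 1 ≤ k + j + 1) hez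
            rw [h.top, mem_bot, commutatorElement_eq_one_iff_commute] at hez2
            exact (hez2.map (Q).subtype).map r')
        rw [card_map_of_injective (MulAut.conj r).injective, card_layer_eq,
          h.card_layer (by omega) (by omega)] at hle
        have : p ^ 1 < p ^ (n - 1 - k) := Nat.pow_lt_pow_right hp.one_lt (by omega)
        rw [pow_one] at this
        omega
      · obtain ⟨u, hu, t, ht, hut⟩ := mem_sup_of_normal_right.1 hxsup
        obtain ⟨a, rfl⟩ := mem_zpowers_iff.1 hu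
        have hxN : (x : G) ∈ N := hN.conj_mem z
          (hΓN (Subgroup.lowerCentralSeries_antitone _ hj hz)) r
        have hsa : (s : G) ^ a ∈ N := by
          have : (x : G) * (t : G)⁻¹ ∈ N := mul_mem hxN (inv_mem (hΓN (mem_layer.2 ht)))
          rw [← hut] at this
          simpa using this
        rcases em ((p : ℤ) ∣ a) with ⟨i, rfl⟩ | hpa
        · rw [← hut]
          refine mul_mem ?_ ht
          rw [zpow_mul, zpow_natCast]
          exact zpow_mem (h.pow_mem_one s) i
        · exfalso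
          apply hsN
          obtain ⟨b, c, hbc⟩ : IsCoprime (p : ℤ) a :=
            (Nat.prime_iff_prime_int.1 hp).irreducible.coprime_iff_not_dvd.2 hpa
          have hspN : (s : G) ^ (p : ℤ) ∈ N := by
            rw [zpow_natCast]
            exact hΓN (mem_layer.2 (h.pow_mem_one s))
          have := mul_mem (zpow_mem hspN b) (zpow_mem hsa c)
          rwa [← zpow_mul, ← zpow_mul, ← zpow_add, mul_comm (p : ℤ), mul_comm a, hbc, zpow_one] at this
    -- `r` centralizes the layer modulo the next one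
    set V := (Q ⊓ C ⊔ zpowers r : Subgroup G)
    have hVle : ∀ i, (∀ z ∈ Γ i, r * z * r⁻¹ ∈ Γ i) → V ≤ normalizer (Γ i : Set G) := by
      intro i hi
      refine sup_le (fun w hw => ?_) (zpowers_le.2 ?_)
      · haveI : (LQ i).Normal := normal_of_characteristic _
        refine Subgroup.mem_normalizer_iff.2 fun z => ⟨fun hz => ?_, fun hz => ?_⟩
        · exact mem_layer.2 ((inferInstance : (LQ i).Normal).conj_mem ⟨z, layer_le i hz⟩ (mem_layer.1 hz) ⟨w, hw.1⟩)
        · have hzQ : z ∈ Q := by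
            have hwQ : w ∈ Q := hw.1
            have := mul_mem (mul_mem (inv_mem hwQ) (layer_le i hz)) hwQ
            convert this using 1
            group
          have := mem_layer.2 ((inferInstance : (LQ i).Normal).conj_mem ⟨_, layer_le i hz⟩ (mem_layer.1 hz)
            (⟨w, hw.1⟩⁻¹ : Q))
          convert this using 1
          simp [mul_assoc]
      · refine Subgroup.mem_normalizer_iff.2 fun z => ⟨hi z, fun hz => ?_⟩
        have e : (Γ i).map (MulAut.conj r).toMonoidHom = Γ i := by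
          refine eq_of_le_of_card_ge (map_le_iff_le_comap.2 hi) ?_
          rw [card_map_of_injective (MulAut.conj r).injective]
        obtain ⟨y, hy, hyz⟩ := e.ge hz
        rwa [← (MulAut.conj r).injective hyz]
    have hstab1 : ∀ z ∈ Γ (j + 1), r * z * r⁻¹ ∈ Γ (j + 1) := by
      intro z hz
      rw [← hQM]
      refine ⟨layer_le j (hstab z (Subgroup.lowerCentralSeries_antitone _ (Nat.le_succ j) hz)), ?_⟩
      exact (mem_normalizer_iff.1 (hMH hrH) _).1 ((hQM.ge hz).2)
    have hjV : Γ j ≤ V := fun z hz => mem_sup_left (hzC z hz)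
    have hle' : Γ (j + 1) ≤ Γ j := Subgroup.lowerCentralSeries_antitone _ (Nat.le_succ j)
    haveI hAn : ((Γ j).subgroupOf V).Normal :=
      (normal_subgroupOf_iff_le_normalizer hjV).2 (hVle j hstab)
    haveI hBn : ((Γ (j + 1)).subgroupOf V).Normal :=
      (normal_subgroupOf_iff_le_normalizer (hle'.trans hjV)).2 (hVle _ hstab1)
    have hcent := step_central hpg ((Γ j).subgroupOf V) ((Γ (j + 1)).subgroupOf V) (by
      rw [Nat.card_congr (subgroupOfEquivOfLe hjV).toEquiv,
        Nat.card_congr (subgroupOfEquivOfLe (hle'.trans hjV)).toEquiv, card_layer_eq, card_layer_eq,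
        h.card_layer (by omega) (by omega), h.card_layer (by omega) (by omega), ← pow_succ']
      exact Nat.pow_le_pow_right hp.pos (by omega)) (comap_mono hle')
    have hrz : ∀ z ∈ Γ j, ⁅r, z⁆ ∈ M := by
      intro z hz
      have h1 := hcent (commutator_mem_commutator
        (show (⟨z, hjV hz⟩ : V) ∈ (Γ j).subgroupOf V from hz)
        (mem_top (⟨r, mem_sup_right (mem_zpowers r)⟩ : V)))
      rw [← commutatorElement_inv]
      exact inv_mem (hQM.ge h1).2
    -- the next step
    let M' := M ⊔ Γ j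
    let H' : Subgroup G :=
      { carrier := {g | g ∈ H ∧ ∀ z ∈ Γ j, ⁅g, z⁆ ∈ M}
        one_mem' := ⟨one_mem _, fun z _ => by simp [one_mem]⟩
        mul_mem' := fun {a b} ha hb => ⟨mul_mem ha.1 hb.1, fun z hz => by
          rw [show ⁅a * b, z⁆ = a * ⁅b, z⁆ * a⁻¹ * ⁅a, z⁆ by simp only [commutatorElement_def]; group]
          exact mul_mem ((mem_normalizer_iff.1 (hMH ha.1) _).1 (hb.2 z hz)) (ha.2 z hz)⟩
        inv_mem' := fun {a} ha => ⟨inv_mem ha.1, fun z hz => by
          rw [show ⁅a⁻¹, z⁆ = a⁻¹ * ⁅a, z⁆⁻¹ * a⁻¹⁻¹ by simp only [commutatorElement_def]; group]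
          exact (mem_normalizer_iff.1 (hMH (inv_mem ha.1)) _).1 (inv_mem (ha.2 z hz))⟩ }
    have hQH' : Q ≤ H' := fun g hg => ⟨hQH hg, fun z hz => by
      have h1 : ⁅(⟨z, layer_le j hz⟩ : Q), (⟨g, hg⟩ : Q)⁆ ∈ LQ (j + 1) := comm_mem_succ (mem_layer.1 hz) _
      rw [← commutatorElement_inv]
      exact inv_mem (hQM.ge (mem_layer.2 h1)).2⟩
    have hM'le : ∀ g ∈ H', M' ≤ M'.comap (MulAut.conj g).toMonoidHom := by
      intro g hg
      refine sup_le (fun x hx => mem_sup_left ((mem_normalizer_iff.1 (hMH hg.1) _).1 hx)) fun z hz => ?_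
      show g * z * g⁻¹ ∈ M'
      rw [show g * z * g⁻¹ = ⁅g, z⁆ * z by simp only [commutatorElement_def]; group]
      exact mul_mem (mem_sup_left (hg.2 z hz)) (mem_sup_right hz)
    have hMH' : H' ≤ normalizer (M' : Set G) := fun g hg => mem_normalizer_iff.2 fun x =>
      ⟨fun hx => hM'le g hg hx, fun hx => by
        have := hM'le g⁻¹ (inv_mem hg) hx
        rw [mem_comap] at this
        convert this using 1
        simp [mul_assoc]⟩
    have hQM' : Q ⊓ M' = Γ j := by
      refine le_antisymm ?_ (le_inf (layer_le j) le_sup_right)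
      rintro x ⟨hxQ, hxM'⟩
      have hnorm : Γ j ≤ normalizer (M : Set G) := (layer_le j).trans hPM
      have : x ∈ (Γ j : Set G) * (M : Set G) := by
        rw [← coe_mul_of_left_le_normalizer_right _ _ hnorm, sup_comm]
        exact hxM'
      obtain ⟨z, hz, m, hm, rfl⟩ := Set.mem_mul.1 this
      have hmQ : m ∈ Q := by
        have := mul_mem (inv_mem (layer_le j hz)) hxQ
        rwa [inv_mul_cancel_left] at this
      exact mul_mem hz (hle' (hQM ▸ ⟨hmQ, hm⟩ : m ∈ Γ (j + 1)))
    have hVC : V ≤ commSub H' M' hMH' (s : G) := by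
      refine sup_le (fun w hw => ⟨hQH' hw.1, mem_sup_left hw.2.2⟩) (zpowers_le.2 ⟨⟨hrH, hrz⟩, ?_⟩)
      exact mem_sup_left hrC.2
    obtain ⟨c, hc, hcQ⟩ := ih hj (by omega) (hcase.imp_left (by omega)) H' M' hMH' hQH' hQM' V hpg hVC
    have hsW : (s : G) ∈ Q ⊓ C := ⟨s.2, (hmemC s).2 (by rw [commutatorElement_self]; exact one_mem _)⟩
    have hs'Q : c * s * c⁻¹ ∈ Q := hcQ _ (mem_sup_left hsW)
    set s' : Q := ⟨_, hs'Q⟩
    have hdiff : s' * s⁻¹ ∈ LQ 1 := by
      refine Subgroup.lowerCentralSeries_antitone _ hj (mem_layer.1 ?_)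
      rw [← hQM']
      exact ⟨SetLike.coe_mem _, hc.2⟩
    have hs'u : Uniform n s' := by
      haveI : (LQ 1).Normal := normal_of_characteristic _
      refine hs.of_mem h ?_ fun e => hs.notMem ?_
      · rw [show s' = s' * s⁻¹ * s by group]
        exact mul_mem (mem_sup_right hdiff) (mem_sup_left (mem_zpowers s))
      · rw [show s = (s' * s⁻¹)⁻¹ * s' by group]
        exact mul_mem (inv_mem hdiff) e
    have himg : V.map (MulAut.conj c).toMonoidHom ≤ (commMod (LQ (j + 1)) s').map (Q).subtype := by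
      rintro _ ⟨v, hv, rfl⟩
      refine ⟨⟨_, hcQ v hv⟩, mem_commMod.2 ?_, rfl⟩
      rw [← mem_layer, ← hQM]
      refine ⟨SetLike.coe_mem _, conj_comm_mem (hMH hc.1.1) ?_⟩
      have : V ≤ C := sup_le inf_le_right (zpowers_le.2 hrC)
      exact (this hv).2
    have hc1 := card_le_of_le himg
    rw [card_map_of_injective (MulAut.conj c).injective, card_map_of_injective (Q).subtype_injective] at hc1
    have hc2 := hc1.trans (hs'u.commMod_le h (by omega) hjn hn1).2
    have hlow : (commMod (LQ (j + 1)) s).map (Q).subtype ≤ Q ⊓ C := by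
      rintro _ ⟨g, hg, rfl⟩
      exact ⟨g.2, (hmemC g).2 (mem_commMod.1 hg)⟩
    have hc3 : p ^ (n + 1 - (j + 1)) ≤ Nat.card (Q ⊓ C : Subgroup G) := by
      refine ((hs.le_card_commMod h (by omega) hjn hn1).trans (le_of_eq ?_)).trans (card_le_of_le hlow)
      rw [card_map_of_injective (Q).subtype_injective]
    have hlt : Q ⊓ C < V := lt_of_le_of_ne le_sup_left fun e => hrn (e.ge (mem_sup_right (mem_zpowers r)))
    have := CfsgLib.PLoc.Uniserial.card_lt_of_lt hlt
    omega

/-- A uniform element has a centralizer with `p`-part `p ^ 2`. -/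
theorem factorization_centralizer (h : MaxClass p n Q) (s : Q) (hs : Uniform n s) {j : ℕ}
    (hj1 : 1 ≤ j) (hjn : j ≤ n - 1)
    (hcase : j + 3 ≤ n ∨ ∃ N : Subgroup G, N.Normal ∧ (s : G) ∉ N ∧ Γ 1 ≤ N)
    (M : Subgroup G) [hM : M.Normal] (hQM : Q ⊓ M = Γ j) :
    (Nat.card (centralizer ({(s : G)} : Set G))).factorization p = 2 := by
  have hp : p.Prime := Fact.out
  have h3 := h.three
  set K := centralizer ({(s : G)} : Set G)
  have hMH : (⊤ : Subgroup G) ≤ normalizer (M : Set G) := by rw [normalizer_eq_top]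
  obtain ⟨T⟩ : Nonempty (Sylow p K) := inferInstance
  have hZ : IsPGroup p (zpowers (s : G)) := P.2.to_le (zpowers_le.2 s.2)
  set R := zpowers (s : G) ⊔ (T : Subgroup K).map K.subtype
  have hnorm : zpowers (s : G) ≤ normalizer ((T : Subgroup K).map K.subtype : Set G) := by
    refine le_trans (zpowers_le.2 (mem_centralizer_iff.2 ?_)) (centralizer_le_normalizer
      (((T : Subgroup K).map K.subtype : Subgroup G) : Set G))
    rintro _ ⟨t, -, rfl⟩
    exact mem_centralizer_singleton_iff.1 t.2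
  have hR : IsPGroup p R := hZ.to_sup_of_normal_right' (T.2.map _) hnorm
  have hRK : R ≤ K := sup_le (zpowers_le.2 (mem_centralizer_singleton_iff.2 rfl)) (map_subtype_le _)
  have hRC : R ≤ commSub ⊤ M hMH (s : G) := fun g hg => ⟨mem_top g, by
    rw [commutatorElement_eq_one_iff_mul_comm.2 (mem_centralizer_singleton_iff.1 (hRK hg))]
    exact one_mem _⟩
  obtain ⟨c, hc, hcQ⟩ := sylow_commSub h s hs j hj1 hjn hcase ⊤ M hMH le_top hQM R hR hRC
  have hs'Q : c * s * c⁻¹ ∈ Q := hcQ _ (mem_sup_left (mem_zpowers _))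
  set s' : Q := ⟨_, hs'Q⟩
  have hdiff : s' * s⁻¹ ∈ LQ 1 := by
    refine Subgroup.lowerCentralSeries_antitone _ hj1 (mem_layer.1 ?_)
    rw [← hQM]
    exact ⟨SetLike.coe_mem _, hc.2⟩
  have hs'u : Uniform n s' := by
    haveI : (LQ 1).Normal := normal_of_characteristic _
    refine hs.of_mem h ?_ fun e => hs.notMem ?_
    · rw [show s' = s' * s⁻¹ * s by group]
      exact mul_mem (mem_sup_right hdiff) (mem_sup_left (mem_zpowers s))
    · rw [show s = (s' * s⁻¹)⁻¹ * s' by group]
      exact mul_mem (inv_mem hdiff) e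
  have himg : R.map (MulAut.conj c).toMonoidHom ≤ (centralizer ({s'} : Set Q)).map (Q).subtype := by
    rintro _ ⟨v, hv, rfl⟩
    refine ⟨⟨_, hcQ v hv⟩, mem_centralizer_singleton_iff.2 (Subtype.ext ?_), rfl⟩
    show c * v * c⁻¹ * (c * s * c⁻¹) = c * s * c⁻¹ * (c * v * c⁻¹)
    rw [show c * v * c⁻¹ * (c * s * c⁻¹) = c * (v * s) * c⁻¹ by group,
      mem_centralizer_singleton_iff.1 (hRK hv)]
    group
  have hc1 := card_le_of_le himg
  rw [card_map_of_injective (MulAut.conj c).injective, card_map_of_injective (Q).subtype_injective] at hc1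
  have hup : Nat.card T ≤ p ^ 2 := by
    refine le_trans ?_ (hc1.trans (hs'u.card_centralizer h))
    rw [← card_map_of_injective K.subtype_injective]
    exact card_le_of_le le_sup_right
  haveI : (LQ (n - 2)).Normal := normal_of_characteristic _
  have hlow : p ^ 2 ∣ Nat.card K := by
    have hlt : LQ (n - 2) < zpowers s ⊔ LQ (n - 2) := lt_of_le_of_ne le_sup_right fun e =>
      hs.notMem (Subgroup.lowerCentralSeries_antitone _ (by omega : 1 ≤ n - 2)
        (e ▸ mem_sup_left (mem_zpowers s)))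
    have h1 := CfsgLib.FusionMaxClass.mul_card_le h.card hlt
    rw [h.card_layer (by omega) (by omega), show n - 1 - (n - 2) = 1 by omega, pow_one, ← sq] at h1
    have hsubK : (zpowers s ⊔ LQ (n - 2)).map (Q).subtype ≤ K := by
      rw [map_le_iff_le_comap]
      refine sup_le (zpowers_le.2 (mem_centralizer_singleton_iff.2 rfl)) fun z hz => ?_
      exact mem_centralizer_singleton_iff.2 ((last_le_center h hz s).map (Q).subtype).eq
    obtain ⟨k, hk⟩ := IsPGroup.iff_card.1 (P.2.to_subgroup (zpowers s ⊔ LQ (n - 2)))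
    have hd := card_dvd_of_le hsubK
    rw [card_map_of_injective (Q).subtype_injective, hk] at hd
    rw [hk] at h1
    exact (pow_dvd_pow p ((Nat.pow_le_pow_iff_right hp.one_lt).1 h1)).trans hd
  rw [T.card_eq_multiplicity] at hup
  refine le_antisymm ((Nat.pow_le_pow_iff_right hp.one_lt).1 hup) ?_
  exact (hp.pow_dvd_iff_le_factorization Nat.card_pos.ne').1 hlow

end CfsgLib.MaxClassUniform
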