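import Cfsg.Prelude.Def_CaseTheorems
import Cfsg.Agent.Lib.MaxClassUniform.Dichotomy
import Cfsg.Agent.Lib.Solvable.Core

/-!
# Perfect groups in which normal subgroups meet a Sylow subgroup trivially or in its centre
-/

set_option autoImplicit false
set_option linter.style.haveILetI false
set_option linter.unusedSectionVars false

open Subgroup
open scoped commutatorElement Pointwise

namespace CfsgLib.MaxClassUniform

universe u

variable {G : Type u} [Group G] [Finite G] {p : ℕ} [Fact p.Prime]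

/-- A normal subgroup with Sylow subgroup of order `p` inside the derived group of a Sylow
subgroup of a perfect group with trivial `p'`-core is central of order `p`. -/
theorem central_of_small (P : Sylow p G) (hperf : commutator G = ⊤)
    (hcore : Cfsg.pPrimeCore p G = ⊥) (N : Subgroup G) [N.Normal]
    (hcard : Nat.card ((P : Subgroup G) ⊓ N : Subgroup G) = p)
    (hcen : ∀ z ∈ (P : Subgroup G) ⊓ N, ∀ g ∈ (P : Subgroup G), Commute z g)
    (hder : (P : Subgroup G) ⊓ N ≤ ⁅(P : Subgroup G), (P : Subgroup G)⁆) :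
    N ≤ center G ∧ Nat.card N = p := by
  have hp : p.Prime := Fact.out
  have hPN : (P : Subgroup G) ≤ normalizer (N : Set G) := le_normalizer_of_normal
  set Z := (P : Subgroup G) ⊓ N with hZdef
  have hZp : IsPGroup p Z := P.2.to_le inf_le_left
  have hsyl : ∀ R : Subgroup G, IsPGroup p R → R ≤ N → ∃ m ∈ N, R.map (MulAut.conj m).toMonoidHom ≤ Z := by
    intro R hR hRN
    obtain ⟨m, hm, hm'⟩ := conj_into P hPN hR (hRN.trans le_sup_left)
    refine ⟨m, hm, ?_⟩
    rintro _ ⟨r, hr, rfl⟩
    exact ⟨hm' r hr, Normal.conj_mem inferInstance r (hRN hr) m⟩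
  have hbound : ∀ R : Subgroup G, IsPGroup p R → R ≤ N → Nat.card R ≤ p := by
    intro R hR hRN
    obtain ⟨m, -, hm⟩ := hsyl R hR hRN
    have := card_le_of_le hm
    rwa [card_map_of_injective (MulAut.conj m).injective, hcard] at this
  set T := normalizer (Z : Set G)
  set C := centralizer (Z : Set G)
  have hPC : (P : Subgroup G) ≤ C := fun g hg => mem_centralizer_iff.2 fun z hz => (hcen z hz g hg).eq
  have hTC : ∀ t ∈ T, ∀ c ∈ C, t * c * t⁻¹ ∈ C := by
    intro t ht c hc
    refine mem_centralizer_iff.2 fun z hz => ?_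
    have h1 : t⁻¹ * z * t⁻¹⁻¹ ∈ Z := (mem_normalizer_iff.1 (inv_mem ht) z).1 hz
    calc z * (t * c * t⁻¹) = t * ((t⁻¹ * z * t⁻¹⁻¹) * c) * t⁻¹ := by group
      _ = t * (c * (t⁻¹ * z * t⁻¹⁻¹)) * t⁻¹ := by rw [mem_centralizer_iff.1 hc _ h1]
      _ = t * c * t⁻¹ * z := by group
  have hfrat : ∀ g : G, ∃ m ∈ N, m * g ∈ T := by
    intro g
    obtain ⟨m, hm, hmle⟩ := hsyl (Z.map (MulAut.conj g).toMonoidHom) (hZp.map _) (by
      rintro _ ⟨z, hz, rfl⟩
      exact Normal.conj_mem inferInstance z hz.2 g)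
    refine ⟨m, hm, mem_normalizer_iff.2 fun z => ?_⟩
    have e : Z.map (MulAut.conj (m * g)).toMonoidHom = Z := by
      refine eq_of_le_of_card_ge ?_ (by rw [card_map_of_injective (MulAut.conj (m * g)).injective])
      rintro _ ⟨z, hz, rfl⟩
      have := hmle ⟨g * z * g⁻¹, ⟨z, hz, rfl⟩, rfl⟩
      convert this using 1
      simp [mul_assoc]
    refine ⟨fun hz => e.le ⟨z, hz, rfl⟩, fun hz => ?_⟩
    obtain ⟨y, hy, hyz⟩ := e.ge hz
    rwa [← (MulAut.conj (m * g)).injective hyz]
  have hXtop : N ⊔ C = ⊤ := by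
    set X := N ⊔ C
    have hXn : X.Normal := by
      refine ⟨fun x hx g => ?_⟩
      obtain ⟨m, hm, hmg⟩ := hfrat g
      have hle : X ≤ X.comap (MulAut.conj (m * g)).toMonoidHom :=
        sup_le (fun y hy => mem_sup_left (Normal.conj_mem inferInstance y hy _))
          fun c hc => mem_sup_right (hTC _ hmg c hc)
      have h1 := mul_mem (mul_mem (mem_sup_left (inv_mem hm) : m⁻¹ ∈ X) (hle hx)) (mem_sup_left hm)
      convert h1 using 1
      simp [mul_assoc]
    refine top_le_iff.1 (hperf ▸ ?_)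
    rw [_root_.commutator_def]
    have htop : (⊤ : Subgroup G) = closure ((N : Set G) ∪ (T : Set G)) := by
      refine (eq_top_iff.2 fun g _ => ?_).symm
      obtain ⟨m, hm, hmg⟩ := hfrat g
      rw [show g = m⁻¹ * (m * g) by group]
      exact mul_mem (subset_closure (Or.inl (inv_mem hm))) (subset_closure (Or.inr hmg))
    rw [htop]
    refine commutator_closure_le X ?_
    rintro a ha b hb
    rcases ha with ha | ha
    · refine mem_sup_left ?_
      rw [commutatorElement_def, mul_assoc, mul_assoc]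
      exact mul_mem ha (by
        rw [← mul_assoc]
        exact Normal.conj_mem inferInstance _ (inv_mem ha) b)
    rcases hb with hb | hb
    · refine mem_sup_left ?_
      rw [commutatorElement_def]
      exact mul_mem (Normal.conj_mem inferInstance b hb a) (inv_mem hb)
    refine mem_sup_right (mem_centralizer_iff.2 fun z hz => ?_)
    -- automorphisms of a group of order `p` commute
    haveI : IsCyclic Z := isCyclic_of_prime_card hcard
    obtain ⟨⟨w, hw⟩, hgen⟩ := IsCyclic.exists_zpow_surjective (G := Z)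
    have hact : ∀ t ∈ T, ∃ i : ℤ, ∀ y ∈ Z, t * y * t⁻¹ = y ^ i := by
      intro t ht
      obtain ⟨i, hi⟩ := hgen ⟨_, (mem_normalizer_iff.1 ht w).1 hw⟩
      refine ⟨i, fun y hy => ?_⟩
      obtain ⟨k, hk⟩ := hgen ⟨y, hy⟩
      have hi' : w ^ i = t * w * t⁻¹ := congrArg Subtype.val hi
      have hk' : w ^ k = y := congrArg Subtype.val hk
      rw [← hk', ← conj_zpow, ← hi', ← zpow_mul, ← zpow_mul, mul_comm]
    obtain ⟨i, hi⟩ := hact a ha
    obtain ⟨k, hk⟩ := hact b hb
    obtain ⟨i', hi'⟩ := hact a⁻¹ (inv_mem ha)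
    obtain ⟨k', hk'⟩ := hact b⁻¹ (inv_mem hb)
    have e1 : ⁅a, b⁆ * z * ⁅a, b⁆⁻¹ = a * (b * (a⁻¹ * (b⁻¹ * z * b⁻¹⁻¹) * a⁻¹⁻¹) * b⁻¹) * a⁻¹ := by
      simp only [commutatorElement_def]; group
    have e2 : a * (a⁻¹ * (b * (b⁻¹ * z * b⁻¹⁻¹) * b⁻¹) * a⁻¹⁻¹) * a⁻¹ = z := by group
    rw [hk' z hz, hi' _ (zpow_mem hz _), hk _ (zpow_mem (zpow_mem hz _) _),
      hi _ (zpow_mem (zpow_mem (zpow_mem hz _) _) _)] at e1
    rw [hk' z hz, hk _ (zpow_mem hz _), hi' _ (zpow_mem (zpow_mem hz _) _),
      hi _ (zpow_mem (zpow_mem (zpow_mem hz _) _) _)] at e2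
    have e3 : ⁅a, b⁆ * z * ⁅a, b⁆⁻¹ = z := by
      rw [e1]
      refine Eq.trans ?_ e2
      simp only [← zpow_mul]
      congr 1
      ring
    exact (mul_inv_eq_iff_eq_mul.1 e3).symm
  by_cases hall : ∀ a ∈ N, a ∈ T → a ∈ C
  · -- Burnside
    have hNZ : N ≤ Z := by
      let S : Sylow p N := ((hZp.comap_of_injective N.subtype N.subtype_injective).toSylow (by
        intro hd
        obtain ⟨R⟩ : Nonempty (Sylow p N) := inferInstance
        have h1 := hbound _ (R.2.map N.subtype) (map_subtype_le _)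
        rw [card_map_of_injective N.subtype_injective] at h1
        have h2 := card_mul_index (Z.comap N.subtype)
        rw [show Nat.card (Z.comap N.subtype) = p from (Nat.card_congr
          (subgroupOfEquivOfLe (inf_le_right : Z ≤ N)).toEquiv).trans hcard] at h2
        have h3 : p ^ 2 ∣ Nat.card N := by
          rw [← h2, sq]
          exact Nat.mul_dvd_mul_left p hd
        have h4 := (R.pow_dvd_card_of_pow_dvd_card h3)
        have h5 := Nat.le_of_dvd Nat.card_pos h4
        have : p < p ^ 2 := by rw [sq]; exact lt_mul_of_one_lt_left hp.pos hp.one_lt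
        omega))
      have hSZ : (S : Subgroup N) = Z.subgroupOf N := by
        show (IsPGroup.toSylow _ _ : Sylow p N).toSubgroup = _
        rw [IsPGroup.toSylow_coe]
        rfl
      have hS : normalizer ((S : Subgroup N) : Set N) ≤ centralizer ((S : Subgroup N) : Set N) := by
        intro a ha
        refine mem_centralizer_iff.2 fun z hz => Subtype.ext ?_
        have haT : (a : G) ∈ T := by
          refine mem_normalizer_iff.2 fun y => ⟨fun hy => ?_, fun hy => ?_⟩
          · have := (mem_normalizer_iff.1 ha ⟨y, hy.2⟩).1 (hSZ.ge hy)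
            exact hSZ.le this
          · have hyN : y ∈ N := by
              have := Normal.conj_mem (inferInstance : N.Normal) _ hy.2 (a : G)⁻¹
              simpa [mul_assoc] using this
            exact hSZ.le ((mem_normalizer_iff.1 ha ⟨y, hyN⟩).2 (hSZ.ge hy))
        exact mem_centralizer_iff.1 (hall a a.2 haT) z (hSZ.le hz)
      have hcompl := MonoidHom.ker_transferSylow_isComplement' S hS
      set O := (MonoidHom.transferSylow S hS).ker
      have hOcop : (Nat.card O).Coprime p := by
        rw [← hcompl.index_eq_card]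
        exact ((Nat.Prime.coprime_iff_not_dvd hp).2 S.not_dvd_index).symm
      have hOchar : (O.map N.subtype).Normal := by
        refine ⟨fun x hx g => ?_⟩
        obtain ⟨o, ho, rfl⟩ := hx
        have hgo : g * (o : G) * g⁻¹ ∈ N := Normal.conj_mem inferInstance _ o.2 g
        refine ⟨⟨_, hgo⟩, ?_, rfl⟩
        show MonoidHom.transferSylow S hS _ = 1
        refine orderOf_eq_one_iff.1 (Nat.eq_one_of_dvd_coprimes ((hOcop.pow_right 1).symm) ?_ ?_)
        · have h1 := orderOf_dvd_natCard (MonoidHom.transferSylow S hS ⟨_, hgo⟩)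
          rwa [show Nat.card S = p ^ 1 by
            rw [pow_one]
            refine Eq.trans ?_ hcard
            exact (Nat.card_congr ((MulEquiv.subgroupCongr hSZ).trans
              (subgroupOfEquivOfLe (inf_le_right : Z ≤ N))).toEquiv)] at h1
        · refine (orderOf_map_dvd _ _).trans ?_
          rw [← orderOf_coe, show ((⟨_, hgo⟩ : N) : G) = MulAut.conj g (o : G) from rfl,
            MulEquiv.orderOf_eq, orderOf_coe]
          exact orderOf_coe (⟨o, ho⟩ : O) ▸ orderOf_dvd_natCard _
      have hObot : O.map N.subtype = ⊥ := CfsgLib.Solvable.pPrimeCore_eq_bot_iff.1 hcore _ hOchar (by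
        rwa [card_map_of_injective N.subtype_injective])
      have hOb : O = ⊥ := map_injective N.subtype_injective (by rw [hObot, Subgroup.map_bot])
      rw [hOb] at hcompl
      have hS' := isComplement'_bot_left.1 hcompl
      intro x hx
      exact hSZ.le (hS'.ge (mem_top (⟨x, hx⟩ : N)))
    have hNeq : N = Z := le_antisymm hNZ inf_le_right
    refine ⟨?_, hNeq ▸ hcard⟩
    have hCtop : C = ⊤ := by
      rw [← hXtop]
      refine (sup_eq_right.2 fun x hx => hall x hx (mem_normalizer_iff.2 fun y => ?_)).symm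
      rw [← hNeq]
      exact mem_normalizer_iff.1 (normalizer_eq_top (H := N) ▸ mem_top x) y
    intro x hx
    exact mem_center_iff.2 fun g => (mem_centralizer_iff.1 (hCtop ▸ mem_top g : g ∈ C) x (hNZ hx)).symm
  · exfalso
    push Not at hall
    obtain ⟨a, haN, haT, haC⟩ := hall
    apply haC
    refine mem_centralizer_iff.2 fun z hz => ?_
    set K := N ⊓ C
    have hZK : Z ≤ K := le_inf inf_le_right (fun y hy => hPC hy.1)
    set m := Nat.card K / p
    have hpK : p ∣ Nat.card K := hcard ▸ card_dvd_of_le hZK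
    have hKm : Nat.card K = p * m := (Nat.mul_div_cancel' hpK).symm
    have hmp : ¬ p ∣ m := by
      intro hd
      obtain ⟨R⟩ : Nonempty (Sylow p K) := inferInstance
      have h1 := hbound _ (R.2.map K.subtype) ((map_subtype_le _).trans inf_le_left)
      rw [card_map_of_injective K.subtype_injective] at h1
      have h5 := Nat.le_of_dvd Nat.card_pos (R.pow_dvd_card_of_pow_dvd_card
        (show p ^ 2 ∣ Nat.card K by rw [hKm, sq]; exact Nat.mul_dvd_mul_left p hd))
      have : p < p ^ 2 := by rw [sq]; exact lt_mul_of_one_lt_left hp.pos hp.one_lt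
      omega
    have hcenK : Z.subgroupOf K ≤ center K := fun y hy => mem_center_iff.2 fun g =>
      Subtype.ext (mem_centralizer_iff.1 g.2.2 y hy).symm
    have hi : (center K).index ∣ m := by
      have h1 := index_dvd_of_le hcenK
      have h2 := card_mul_index (Z.subgroupOf K)
      rw [Nat.card_congr (subgroupOfEquivOfLe hZK).toEquiv, hcard, hKm] at h2
      rwa [Nat.eq_of_mul_eq_mul_left hp.pos h2] at h1
    obtain ⟨e, he⟩ := hi
    have hpowmul : ∀ y w : K, (y * w) ^ m = y ^ m * w ^ m := by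
      intro y w
      have h1 := congrArg (Subtype.val) ((MonoidHom.transferCenterPow K).map_mul y w)
      simp only [MonoidHom.transferCenterPow_apply, Subgroup.coe_mul] at h1
      rw [he, pow_mul, h1, pow_mul, pow_mul]
      exact (Commute.mul_pow ((mem_center_iff.1 ((center K).pow_index_mem w)) _) e)
    have hpowZ : ∀ y : K, (y : G) ^ m ∈ Z := by
      intro y
      have hy : ((y : G) ^ m) ^ p = 1 := by
        rw [← pow_mul, mul_comm, ← hKm, ← SubmonoidClass.coe_pow, pow_card_eq_one']
        rfl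
      have hY : IsPGroup p (zpowers ((y : G) ^ m)) := by
        obtain ⟨k, -, hk⟩ := (Nat.dvd_prime_pow hp).1
          (show orderOf ((y : G) ^ m) ∣ p ^ 1 by rw [pow_one]; exact orderOf_dvd_of_pow_eq_one hy)
        exact IsPGroup.of_card (p := p) (n := k) (by rw [Nat.card_zpowers, hk])
      have hnorm : zpowers ((y : G) ^ m) ≤ normalizer (Z : Set G) :=
        le_trans (zpowers_le.2 (pow_mem (y.2.2 : (y : G) ∈ C) m)) (centralizer_le_normalizer _)
      have h1 := hbound _ (hY.to_sup_of_normal_right' hZp hnorm)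
        (sup_le (zpowers_le.2 (pow_mem (y.2.1 : (y : G) ∈ N) m)) inf_le_right)
      exact (eq_of_le_of_card_ge le_sup_right (by rw [hcard]; exact h1)).ge
        (mem_sup_left (mem_zpowers _))
    have hcomm : ∀ c : C, ⁅a, (c : G)⁆ ∈ K := fun c => Subgroup.mem_inf.2 ⟨by
      rw [commutatorElement_def, show a * (c : G) * a⁻¹ * (c : G)⁻¹ = a * ((c : G) * a⁻¹ * (c : G)⁻¹) by group]
      exact mul_mem haN (Normal.conj_mem inferInstance _ (inv_mem haN) _),
      mul_mem (hTC a haT c c.2) (inv_mem (c.2 : (c : G) ∈ C))⟩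
    let f : C →* G :=
      { toFun := fun c => ⁅a, (c : G)⁆ ^ m
        map_one' := by simp
        map_mul' := fun c d => by
          have hw : (c : G) * ⁅a, (d : G)⁆ * (c : G)⁻¹ ∈ K :=
            Subgroup.mem_inf.2 ⟨Normal.conj_mem inferInstance _ (hcomm d).1 _, mul_mem (mul_mem c.2 (hcomm d).2) (inv_mem (c.2 : (c : G) ∈ C))⟩
          have h1 := congrArg Subtype.val (hpowmul ⟨_, hcomm c⟩ ⟨_, hw⟩)
          simp only [Subgroup.coe_mul, SubmonoidClass.coe_pow] at h1
          have h2 : ((c : G) * ⁅a, (d : G)⁆ * (c : G)⁻¹) ^ m = ⁅a, (d : G)⁆ ^ m := by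
            rw [conj_pow, ← mem_centralizer_iff.1 c.2 _ (hpowZ ⟨_, hcomm d⟩), mul_inv_cancel_right]
          rw [Subgroup.coe_mul, show ⁅a, (c : G) * (d : G)⁆ = ⁅a, (c : G)⁆ * ((c : G) * ⁅a, (d : G)⁆ * (c : G)⁻¹) by
            simp only [commutatorElement_def]; group, h1, h2] }
    have hker : ⁅(P : Subgroup G), (P : Subgroup G)⁆ ≤ f.ker.map C.subtype := by
      rw [commutator_le]
      intro g hg h hh
      refine ⟨⁅(⟨g, hPC hg⟩ : C), ⟨h, hPC hh⟩⁆, ?_, rfl⟩
      rw [SetLike.mem_coe, MonoidHom.mem_ker, map_commutatorElement, commutatorElement_eq_one_iff_mul_comm]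
      exact (mem_centralizer_iff.1 (hcomm ⟨h, hPC hh⟩ |> fun hk => (pow_mem hk.2 m : _ ∈ C)) _
        (hpowZ ⟨_, hcomm ⟨g, hPC hg⟩⟩))
    obtain ⟨c, hc, hcz⟩ := hker (hder hz)
    have h1 : ⁅a, z⁆ ^ m = 1 := by rw [← hcz]; exact hc
    have h2 : ⁅a, z⁆ ∈ Z := mul_mem ((mem_normalizer_iff.1 haT z).1 hz) (inv_mem hz)
    have h3 : ⁅a, z⁆ ^ p = 1 := by
      have := pow_card_eq_one' (x := (⟨_, h2⟩ : Z))
      rw [hcard] at this
      exact congrArg Subtype.val this
    have h4 : ⁅a, z⁆ = 1 := by
      refine orderOf_eq_one_iff.1 (Nat.eq_one_of_dvd_coprimes ((Nat.Prime.coprime_iff_not_dvd hp).2 hmp)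
        (orderOf_dvd_of_pow_eq_one h3) (orderOf_dvd_of_pow_eq_one h1))
    exact (commutatorElement_eq_one_iff_mul_comm.1 h4).symm

end CfsgLib.MaxClassUniform
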